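import Cfsg.Agent.Lib.Block.GenericPoint.Descent

/-!
# The correspondent for an abelian `p`-group

A representation whose restriction to a normal `p'`-subgroup `K` is full yields, for every abelian
`p`-subgroup `P`, a representation of the normaliser of `P` whose restriction to the centraliser of `P`
in `K` is full, with the same central scalars and compatible with the Brauer homomorphism.
-/

set_option autoImplicit false

namespace CfsgLib.Block.GenericPoint

open Module LinearMap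

universe u

variable {k : Type*} [Field k] [IsAlgClosed k] {p : ℕ} [hp : Fact p.Prime] [CharP k p]

/-- The conclusion of the chain. -/
def IsDescendant {Γ : Type*} [Group Γ] {d e : ℕ} (K : Subgroup Γ) (P : Subgroup Γ)
    (σ : Γ →* Module.End k (Fin d → k))
    (σ' : Subgroup.normalizer (P : Set Γ) →* Module.End k (Fin e → k)) : Prop :=
  Submodule.span k (Set.range (σ'.comp
      ((K ⊓ Subgroup.centralizer (P : Set Γ)).subgroupOf (Subgroup.normalizer (P : Set Γ))).subtype)) = ⊤ ∧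
    (∀ (z : Subgroup.normalizer (P : Set Γ)) (t : k), (∀ g : Γ, (z : Γ) * g = g * z) → σ z = t • 1 →
      σ' z = t • 1) ∧
    ∀ (y : Γ → k) (t : k), (∀ w ∈ P, ∀ g, y (w * g * w⁻¹) = y g) → ∑ᶠ g : K, y g • σ g = t • 1 →
      ∑ᶠ c : (K ⊓ Subgroup.centralizer (P : Set Γ)).subgroupOf (Subgroup.normalizer (P : Set Γ)),
        y ((c : Subgroup.normalizer (P : Set Γ)) : Γ) • σ' c = t • 1

theorem scalar_eq_one {U : Type*} [AddCommGroup U] [Module k U] [Nontrivial U] {a : Module.End k U}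
    {n : ℕ} (ha : a ^ p ^ n = 1) (hc : ∀ b, Commute a b) : a = 1 := by
  obtain ⟨c, hc'⟩ := exists_scalar (S := a) inferInstance hc
  have e : a = c • 1 := LinearMap.ext fun x => by simp [hc']
  rw [e, smul_pow, one_pow] at ha
  obtain ⟨x, hx⟩ := exists_ne (0 : U)
  have h1 : c ^ p ^ n = 1 := by
    have := LinearMap.congr_fun ha x
    simp only [LinearMap.smul_apply, Module.End.one_apply] at this
    exact smul_left_injective k hx (by simpa using this)
  rw [e, show c = 1 by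
    have h2 : (c - 1) ^ p ^ n = 0 := by rw [sub_pow_char_pow, h1, one_pow, sub_self]
    exact sub_eq_zero.1 ((pow_eq_zero_iff (pow_ne_zero n hp.out.ne_zero)).1 h2), one_smul]

theorem exists_descendant : ∀ (Γ : Type u) [Group Γ] [Fintype Γ] (K : Subgroup Γ) [K.Normal] {d : ℕ},
    0 < d → ∀ (σ : Γ →* Module.End k (Fin d → k)) (P : Subgroup Γ), (Nat.card K : k) ≠ 0 →
      Submodule.span k (Set.range (σ.comp K.subtype)) = ⊤ → IsPGroup p P →
      (∀ x ∈ P, ∀ y ∈ P, x * y = y * x) →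
      ∃ (e : ℕ) (σ' : Subgroup.normalizer (P : Set Γ) →* Module.End k (Fin e → k)),
        0 < e ∧ IsDescendant K P σ σ' := by
  classical
  suffices H : ∀ (n : ℕ) (Γ : Type u) [Group Γ] [Fintype Γ] (K : Subgroup Γ) [K.Normal] {d : ℕ}
      (σ : Γ →* Module.End k (Fin d → k)) (P : Subgroup Γ), 0 < d →
      Nat.card {u : Γ // u ∈ P ∧ ¬ (σ u = 1 ∧ ∀ g ∈ K, u * g = g * u)} = n → (Nat.card K : k) ≠ 0 →
      Submodule.span k (Set.range (σ.comp K.subtype)) = ⊤ → IsPGroup p P →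
      (∀ x ∈ P, ∀ y ∈ P, x * y = y * x) →
      ∃ (e : ℕ) (σ' : Subgroup.normalizer (P : Set Γ) →* Module.End k (Fin e → k)),
        0 < e ∧ IsDescendant K P σ σ' from
    fun Γ _ _ K _ d hd σ P => H _ Γ K σ P hd rfl
  intro n
  induction n using Nat.strong_induction_on with
  | _ n ih =>
  intro Γ _ _ K _ d σ P hd hn hK hfull hP hab
  haveI : Nonempty (Fin d) := ⟨⟨0, hd⟩⟩
  let Q : Γ → Prop := fun u => σ u = 1 ∧ ∀ g ∈ K, u * g = g * u
  by_cases hall : ∀ u ∈ P, Q u
  · -- nothing to do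
    have hC : K ⊓ Subgroup.centralizer (P : Set Γ) = K :=
      inf_eq_left.2 fun g hg => Subgroup.mem_centralizer_iff.2 fun u hu => (hall u hu).2 g hg
    have hKN : K ≤ Subgroup.normalizer (P : Set Γ) := fun g hg =>
      Subgroup.centralizer_le_normalizer (P : Set Γ) ((hC.ge hg).2)
    refine ⟨d, σ.comp (Subgroup.normalizer (P : Set Γ)).subtype, hd, ?_, fun z t _ h => h, fun y t _ h => ?_⟩
    · rw [eq_top_iff, ← hfull]
      refine Submodule.span_mono ?_
      rintro _ ⟨g, rfl⟩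
      exact ⟨⟨⟨g, hKN g.2⟩, Subgroup.mem_subgroupOf.2 (hC.ge g.2)⟩, rfl⟩
    · rw [← h]
      refine (finsum_eq_of_bijective (fun g : K => (⟨⟨g, hKN g.2⟩, Subgroup.mem_subgroupOf.2 (hC.ge g.2)⟩ :
        (K ⊓ Subgroup.centralizer (P : Set Γ)).subgroupOf (Subgroup.normalizer (P : Set Γ))))
        ⟨fun a b hab => Subtype.ext (congrArg (fun x : ↥((K ⊓ Subgroup.centralizer (P : Set Γ)).subgroupOf (Subgroup.normalizer (P : Set Γ))) =>
          ((x : Subgroup.normalizer (P : Set Γ)) : Γ)) hab :),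
          fun x => ⟨⟨_, (Subgroup.mem_subgroupOf.1 x.2).1⟩, rfl⟩⟩ fun g => rfl).symm
  -- the section
  let W : Subgroup Γ :=
    { carrier := {u | u ∈ P ∧ Q (u ^ p)}
      one_mem' := ⟨P.one_mem, by simp [Q]⟩
      mul_mem' := fun {a b} ⟨ha, ha1, ha2⟩ ⟨hb, hb1, hb2⟩ => ⟨P.mul_mem ha hb, by
        rw [(show Commute a b from hab a ha b hb).mul_pow]
        exact ⟨by rw [map_mul, ha1, hb1, one_mul], fun g hg => by
          rw [mul_assoc, hb2 g hg, ← mul_assoc, ha2 g hg, mul_assoc]⟩⟩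
      inv_mem' := fun {a} ⟨ha, ha1, ha2⟩ => ⟨P.inv_mem ha, by
        rw [inv_pow]
        refine ⟨?_, fun g hg => ?_⟩
        · have := congrArg (· * σ (a ^ p)⁻¹) ha1
          simp only [← map_mul, mul_inv_cancel, map_one, one_mul] at this
          exact this.symm
        · exact ((show Commute (a ^ p) g from ha2 g hg).inv_left).eq⟩ }
  have hWP : W ≤ P := fun u hu => hu.1
  let N : Subgroup Γ := Subgroup.normalizer (W : Set Γ)
  obtain ⟨e1, σ1, he1, hfull1, hz1, hy1⟩ := exists_step σ hK hfull W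
    (fun x hx y hy => hab x hx.1 y hy.1) fun w hw => hw.2
  have hPN : P ≤ N := fun u hu => Subgroup.mem_normalizer_iff.2 fun w => by
    constructor
    · intro hw
      rwa [hab u hu w hw.1, mul_inv_cancel_right]
    · intro hw
      have h1 : w ∈ P := by
        have h2 := P.mul_mem (P.mul_mem (P.inv_mem hu) hw.1) hu
        simpa [mul_assoc] using h2
      rwa [hab u hu w h1, mul_inv_cancel_right] at hw
  let K1 : Subgroup N := (K ⊓ Subgroup.centralizer (W : Set Γ)).subgroupOf N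
  have hmemK1 : ∀ x : N, x ∈ K1 ↔ (x : Γ) ∈ K ∧ ∀ w ∈ W, w * x * w⁻¹ = (x : Γ) := fun x => by
    rw [Subgroup.mem_subgroupOf, Subgroup.mem_inf, Subgroup.mem_centralizer_iff]
    exact and_congr_right fun _ => forall₂_congr fun w _ => by rw [mul_inv_eq_iff_eq_mul]
  haveI : K1.Normal := ⟨fun x hx g => by
    rw [hmemK1] at hx ⊢
    refine ⟨‹K.Normal›.conj_mem _ hx.1 _, fun w hw => ?_⟩
    have h1 := hx.2 _ ((Subgroup.mem_normalizer_iff.1 (N.inv_mem g.2) w).1 hw)
    push_cast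
    calc w * ((g : Γ) * x * (g : Γ)⁻¹) * w⁻¹ = (g : Γ) * (((g : Γ)⁻¹ * w * ((g : Γ)⁻¹)⁻¹) * x *
          ((g : Γ)⁻¹ * w * ((g : Γ)⁻¹)⁻¹)⁻¹) * (g : Γ)⁻¹ := by group
      _ = _ := by rw [h1]⟩
  let P1 : Subgroup N := P.subgroupOf N
  have hfull1' : Submodule.span k (Set.range (σ1.comp K1.subtype)) = ⊤ := by
    rw [eq_top_iff, ← hfull1]
    refine Submodule.span_mono ?_
    rintro _ ⟨x, hx, rfl⟩
    exact ⟨⟨x, (hmemK1 x).2 hx⟩, rfl⟩
  have hK1 : (Nat.card K1 : k) ≠ 0 := by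
    have h1 : Nat.card K1 ∣ Nat.card K :=
      Subgroup.card_dvd_of_injective
        ({ toFun := fun x => ⟨(x : N), ((hmemK1 x).1 x.2).1⟩
           map_one' := rfl
           map_mul' := fun _ _ => rfl } : K1 →* K)
        fun a b h => Subtype.ext (Subtype.ext (congrArg (fun z : K => (z : Γ)) h :))
    obtain ⟨t, ht⟩ := h1
    intro h0
    exact hK (by rw [ht, Nat.cast_mul, h0, zero_mul])
  haveI : Nonempty (Fin e1) := ⟨⟨0, he1⟩⟩
  have hW1 : ∀ x : N, (x : Γ) ∈ W → σ1 x = 1 ∧ ∀ g ∈ K1, x * g = g * x := by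
    intro x hx
    have hcomm : ∀ g ∈ K1, x * g = g * x := fun g hg => Subtype.ext (by
      have := ((hmemK1 g).1 hg).2 _ hx
      rwa [mul_inv_eq_iff_eq_mul] at this)
    obtain ⟨i, hi⟩ := hP ⟨x, hWP hx⟩
    refine ⟨scalar_eq_one (p := p) (n := i) ?_ fun b => ?_, hcomm⟩
    · rw [← map_pow, show x ^ p ^ i = 1 from Subtype.ext (by
        simpa using congrArg Subtype.val hi), map_one]
    · have hb : b ∈ Submodule.span k (Set.range (σ1.comp K1.subtype)) := hfull1' ▸ Submodule.mem_top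
      induction hb using Submodule.span_induction with
      | mem z hz =>
        obtain ⟨g, rfl⟩ := hz
        show σ1 x * σ1 g = σ1 g * σ1 x
        rw [← map_mul, ← map_mul, hcomm g g.2]
      | zero => exact Commute.zero_right _
      | add z z' _ _ hz hz' => exact hz.add_right hz'
      | smul t z _ hz => exact hz.smul_right t
  -- the measure drops
  have hP1 : IsPGroup p P1 := hP.of_equiv (Subgroup.subgroupOfEquivOfLe hPN).symm
  have hlt : Nat.card {u : N // u ∈ P1 ∧ ¬ (σ1 u = 1 ∧ ∀ g ∈ K1, u * g = g * u)} < n := by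
    push Not at hall
    obtain ⟨u, huP, huQ⟩ := hall
    obtain ⟨i, hi⟩ := hP ⟨u, huP⟩
    have hex : ∃ j, Q (u ^ p ^ j) := ⟨i, by
      rw [show u ^ p ^ i = 1 by simpa using congrArg Subtype.val hi]
      exact ⟨map_one σ, fun g _ => by simp⟩⟩
    obtain ⟨j, hj⟩ : ∃ j, Nat.find hex = j + 1 := Nat.exists_eq_succ_of_ne_zero fun h0 => huQ (by
      have := Nat.find_spec hex
      rwa [h0, pow_zero, pow_one] at this)
    have hv : u ^ p ^ j ∈ W := ⟨P.pow_mem huP _, by
      have := Nat.find_spec hex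
      rwa [hj, pow_succ, pow_mul] at this⟩
    have hvQ : ¬ Q (u ^ p ^ j) := Nat.find_min hex (by omega)
    rw [← hn]
    letI := Fintype.ofFinite {u : N // u ∈ P1 ∧ ¬ (σ1 u = 1 ∧ ∀ g ∈ K1, u * g = g * u)}
    letI := Fintype.ofFinite {u : Γ // u ∈ P ∧ ¬ (σ u = 1 ∧ ∀ g ∈ K, u * g = g * u)}
    rw [Nat.card_eq_fintype_card, Nat.card_eq_fintype_card]
    refine Fintype.card_lt_of_injective_of_notMem
      (fun x => (⟨(x.1 : Γ), Subgroup.mem_subgroupOf.1 x.2.1, fun hQ => x.2.2 (hW1 x.1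
        ⟨Subgroup.mem_subgroupOf.1 x.2.1, by
          refine ⟨?_, fun g hg => ?_⟩
          · rw [map_pow, hQ.1, one_pow]
          · exact ((show Commute (x.1 : Γ) g from hQ.2 g hg).pow_left p).eq⟩)⟩ :
        {u : Γ // u ∈ P ∧ ¬ (σ u = 1 ∧ ∀ g ∈ K, u * g = g * u)}))
      (fun a b h => Subtype.ext (Subtype.ext (congrArg Subtype.val h :)))
      (b := ⟨u ^ p ^ j, P.pow_mem huP _, hvQ⟩) ?_
    rintro ⟨x, hx⟩
    have hxv : (x.1 : Γ) = u ^ p ^ j := congrArg Subtype.val hx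
    exact x.2.2 (hW1 x.1 (hxv ▸ hv))
  obtain ⟨e, σ', he, hF, hZ, hY⟩ := ih _ hlt N K1 σ1 P1 he1 rfl hK1 hfull1' hP1
    fun x hx y hy => Subtype.ext (hab _ hx _ hy)
  -- transport to the normaliser of `P`
  have hNP : Subgroup.normalizer (P : Set Γ) ≤ N := fun g hg => by
    have key : ∀ g ∈ Subgroup.normalizer (P : Set Γ), ∀ w ∈ W, g * w * g⁻¹ ∈ W := fun g hg w ⟨hw, hw1, hw2⟩ => by
      refine ⟨(Subgroup.mem_normalizer_iff.1 hg w).1 hw, ?_, fun x hx => ?_⟩
      · rw [conj_pow, map_mul, map_mul, hw1, mul_one, ← map_mul, mul_inv_cancel, map_one]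
      · rw [conj_pow]
        have h1 := hw2 (g⁻¹ * x * g) (by simpa using ‹K.Normal›.conj_mem _ hx g⁻¹)
        calc g * w ^ p * g⁻¹ * x = g * (w ^ p * (g⁻¹ * x * g)) * g⁻¹ := by group
          _ = _ := by rw [h1]; group
    refine Subgroup.mem_normalizer_iff.2 fun w => ⟨key g hg w, fun hw => ?_⟩
    have := key g⁻¹ (inv_mem hg) _ hw
    simpa [mul_assoc] using this
  let f : Subgroup.normalizer (P : Set Γ) →* Subgroup.normalizer (P1 : Set N) :=
    { toFun := fun g => ⟨⟨g, hNP g.2⟩, Subgroup.mem_normalizer_iff.2 fun x => by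
        simp only [P1, Subgroup.mem_subgroupOf]
        exact Subgroup.mem_normalizer_iff.1 g.2 x⟩
      map_one' := rfl
      map_mul' := fun _ _ => rfl }
  have hcc : ∀ g : Subgroup.normalizer (P : Set Γ),
      g ∈ (K ⊓ Subgroup.centralizer (P : Set Γ)).subgroupOf (Subgroup.normalizer (P : Set Γ)) ↔
      f g ∈ (K1 ⊓ Subgroup.centralizer (P1 : Set N)).subgroupOf (Subgroup.normalizer (P1 : Set N)) := by
    intro g
    simp only [Subgroup.mem_subgroupOf, Subgroup.mem_inf, hmemK1, Subgroup.mem_centralizer_iff]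
    refine ⟨fun ⟨h1, h2⟩ => ⟨⟨h1, fun w hw => ?_⟩, fun x hx => Subtype.ext (h2 _ hx)⟩,
      fun ⟨⟨h1, _⟩, h2⟩ => ⟨h1, fun u hu => congrArg Subtype.val (h2 ⟨u, hPN hu⟩ hu)⟩⟩
    show w * (g : Γ) * w⁻¹ = g
    rw [h2 w (hWP hw), mul_inv_cancel_right]
  have hsurj : ∀ x : Subgroup.normalizer (P1 : Set N),
      x ∈ (K1 ⊓ Subgroup.centralizer (P1 : Set N)).subgroupOf (Subgroup.normalizer (P1 : Set N)) →
      ∃ g, f g = x := fun x hx => by
    refine ⟨⟨((x : N) : Γ), ?_⟩, Subtype.ext (Subtype.ext rfl)⟩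
    refine Subgroup.centralizer_le_normalizer (P : Set Γ) (Subgroup.mem_centralizer_iff.2 fun u hu => ?_)
    exact congrArg Subtype.val (Subgroup.mem_centralizer_iff.1 (Subgroup.mem_subgroupOf.1 hx).2
      ⟨u, hPN hu⟩ (Subgroup.mem_subgroupOf.2 hu))
  refine ⟨e, σ'.comp f, he, ?_, fun z t hz h => ?_, fun y t hy h => ?_⟩
  · rw [eq_top_iff, ← hF]
    refine Submodule.span_mono ?_
    rintro _ ⟨x, rfl⟩
    obtain ⟨g, hg⟩ := hsurj x x.2
    exact ⟨⟨g, (hcc g).2 (hg ▸ x.2)⟩, congrArg σ' hg⟩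
  · exact hZ (f z) t (fun g => Subtype.ext (hz g)) (hz1 ⟨z, hNP z.2⟩ t hz h)
  · have h1 := hy1 y t (fun w hw g => hy w (hWP hw) g) (by rwa [finsum_eq_sum_of_fintype] at h)
    have h2 := hY (fun x => y x) t (fun w hw g => hy _ hw g) (by
      rw [finsum_eq_sum_of_fintype, ← h1]
      exact (Finset.sum_subtype _ (fun x => by simp [hmemK1]) fun x : N => y x • σ1 x).symm)
    rw [← h2]
    refine finsum_eq_of_bijective (fun g => ⟨f g.1, (hcc g.1).1 g.2⟩) ⟨fun a b hab' => ?_, fun x => ?_⟩ fun g => rfl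
    · exact Subtype.ext (Subtype.ext (congrArg (fun z : ↥((K1 ⊓ Subgroup.centralizer (P1 : Set N)).subgroupOf
        (Subgroup.normalizer (P1 : Set N))) => (((z : Subgroup.normalizer (P1 : Set N)) : N) : Γ)) hab' :))
    · obtain ⟨g, hg⟩ := hsurj x x.2
      exact ⟨⟨g, (hcc g).2 (hg ▸ x.2)⟩, Subtype.ext hg⟩

end CfsgLib.Block.GenericPoint
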