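import Cfsg.Agent.Lib.Block.GenericPoint.Transfer

/-!
# A group acting on a full representation of a group of invertible order

`V` acts on `K` and on a representation `ρ` of `K` whose image spans all operators.  Every operator
commuting with `V` is, up to transfers, in the span of the image of the fixed subgroup `C`; so the kernel
of the action of `kC` on the layer space at an admissible point is the radical of the trace form.
-/

set_option autoImplicit false

namespace CfsgLib.Block.GenericPoint

open Module LinearMap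

variable {k : Type*} [Field k] {M : Type*} [AddCommGroup M] [Module k M]
variable {K : Type*} [Group K] {V : Type*} [CommGroup V]

/-- The hypotheses on an action. -/
structure IsAction (p : ℕ) (α : V →* MulAut K) (ρ : K →* Module.End k M) (π : V →* Module.End k M) :
    Prop where
  compat : ∀ v g, π v * ρ g = ρ (α v g) * π v
  pi_pow : ∀ v, π v ^ p = 1
  alpha_pow : ∀ v, α v ^ p = 1
  full : Submodule.span k (Set.range ρ) = ⊤
  card_ne : (Nat.card K : k) ≠ 0
  nontriv : Nontrivial M

/-- The fixed subgroup. -/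
def fix (α : V →* MulAut K) : Subgroup K where
  carrier := {g | ∀ v, α v g = g}
  one_mem' := fun v => map_one _
  mul_mem' := fun ha hb v => by rw [map_mul, ha v, hb v]
  inv_mem' := fun ha v => by rw [map_inv, ha v]

theorem mem_fix {α : V →* MulAut K} {g : K} : g ∈ fix α ↔ ∀ v, α v g = g := Iff.rfl

/-- The operator of a function. -/
noncomputable def ev [Fintype K] (ρ : K →* Module.End k M) : (K → k) →ₗ[k] Module.End k M :=
  ∑ g : K, (LinearMap.proj g).smulRight (ρ g)

theorem ev_apply [Fintype K] (ρ : K →* Module.End k M) (s : K → k) :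
    ev ρ s = ∑ g : K, s g • ρ g := by simp [ev]

/-- The coefficients of an operator. -/
noncomputable def sec [Fintype K] (ρ : K →* Module.End k M) : Module.End k M →ₗ[k] (K → k) :=
  LinearMap.pi fun g => LinearMap.trace k M ∘ₗ LinearMap.mulRight k (ρ g⁻¹)

theorem sec_apply [Fintype K] (ρ : K →* Module.End k M) (a : Module.End k M) (g : K) :
    sec ρ a g = LinearMap.trace k M (a * ρ g⁻¹) := rfl

theorem exists_scalar {S : Module.End k M} (hnt : Nontrivial M) (h : ∀ b, Commute S b) :
    ∃ c : k, ∀ x, S x = c • x := by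
  obtain ⟨x0, hx0⟩ := exists_ne (0 : M)
  obtain ⟨ψ, hψ⟩ := Module.Projective.exists_dual_eq_one k hx0
  refine ⟨ψ (S x0), fun x => ?_⟩
  have := LinearMap.congr_fun (h (LinearMap.smulRight ψ x)).eq x0
  simp only [Module.End.mul_apply, LinearMap.smulRight_apply, hψ, one_smul] at this
  exact this

variable [FiniteDimensional k M] [Fintype K] {p : ℕ} {α : V →* MulAut K}
  {ρ : K →* Module.End k M} {π : V →* Module.End k M}

theorem IsAction.sum_conj (h : IsAction p α ρ π) (b : Module.End k M) :
    ∃ c : k, (∀ x, (∑ g : K, ρ g * b * ρ g⁻¹) x = c • x) ∧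
      c * (finrank k M : k) = (Nat.card K : k) * LinearMap.trace k M b := by
  set S := ∑ g : K, ρ g * b * ρ g⁻¹
  obtain ⟨c, hc⟩ := exists_scalar (S := S) h.nontriv fun a => by
    have ha : a ∈ Submodule.span k (Set.range ρ) := h.full ▸ Submodule.mem_top
    induction ha using Submodule.span_induction with
    | mem x hx =>
      obtain ⟨g0, rfl⟩ := hx
      rw [Commute, SemiconjBy]
      simp only [S, Finset.sum_mul, Finset.mul_sum]
      refine (Fintype.sum_equiv (Equiv.mulLeft g0) _ _ fun g => ?_).symm
      simp only [Equiv.coe_mulLeft, mul_assoc, ← map_mul, mul_inv_rev]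
      simp only [← mul_assoc, ← map_mul]
      simp [mul_assoc]
    | zero => exact Commute.zero_right _
    | add x y _ _ hx hy => exact hx.add_right hy
    | smul t x _ hx => exact hx.smul_right t
  refine ⟨c, hc, ?_⟩
  have e : S = c • (1 : Module.End k M) := LinearMap.ext fun x => by simp [hc]
  have h1 := congrArg (LinearMap.trace k M) e
  rw [map_smul, Module.End.one_eq_id, LinearMap.trace_id, smul_eq_mul] at h1
  rw [← h1]
  simp only [S, map_sum]
  rw [Finset.sum_congr rfl (g := fun _ => LinearMap.trace k M b) fun g _ => by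
    rw [mul_assoc, LinearMap.trace_mul_comm, mul_assoc, ← map_mul, inv_mul_cancel, map_one, mul_one],
    Finset.sum_const, Finset.card_univ, nsmul_eq_mul, Nat.card_eq_fintype_card]

theorem IsAction.finrank_ne (h : IsAction p α ρ π) : (finrank k M : k) ≠ 0 := by
  haveI := h.nontriv
  obtain ⟨x, hx⟩ := exists_ne (0 : M)
  obtain ⟨ψ, hψ⟩ := Module.Projective.exists_dual_eq_one k hx
  obtain ⟨c, -, hc⟩ := h.sum_conj (LinearMap.smulRight ψ x)
  rw [LinearMap.trace_smulRight, hψ, mul_one] at hc
  intro h0
  exact h.card_ne (by rw [← hc, h0, mul_zero])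

theorem IsAction.ev_sec (h : IsAction p α ρ π) (a : Module.End k M) :
    (finrank k M : k) • ev ρ (sec ρ a) = (Nat.card K : k) • a := by
  have hone : ∀ (ψ : M →ₗ[k] k) (y : M), (finrank k M : k) • ev ρ (sec ρ (LinearMap.smulRight ψ y)) =
      (Nat.card K : k) • LinearMap.smulRight ψ y := by
    intro ψ y
    refine LinearMap.ext fun x => ?_
    obtain ⟨c, hc1, hc2⟩ := h.sum_conj (LinearMap.smulRight ψ x)
    rw [LinearMap.trace_smulRight] at hc2
    have h1 : ev ρ (sec ρ (LinearMap.smulRight ψ y)) x = c • y := by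
      rw [← hc1 y]
      simp only [ev_apply, LinearMap.sum_apply, LinearMap.smul_apply, sec_apply]
      refine Finset.sum_congr rfl fun g _ => ?_
      rw [show LinearMap.smulRight ψ y * ρ g⁻¹ = LinearMap.smulRight (ψ ∘ₗ ρ g⁻¹) y from rfl,
        LinearMap.trace_smulRight]
      simp [map_smul]
    rw [LinearMap.smul_apply, h1, LinearMap.smul_apply, LinearMap.smulRight_apply, smul_smul, smul_smul,
      mul_comm _ c, hc2]
  let B := Module.finBasis k M
  have ha : a = ∑ j, LinearMap.smulRight (B.coord j) (a (B j)) := B.ext fun j => by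
    rw [LinearMap.sum_apply, Finset.sum_eq_single j (fun l _ hne => by simp [hne.symm]) (by simp)]
    simp
  rw [ha]
  simp only [map_sum, Finset.smul_sum, hone]

theorem IsAction.sec_invariant (h : IsAction p α ρ π) {a : Module.End k M}
    (ha : ∀ v, Commute (π v) a) (v : V) (g : K) : sec ρ a (α v g) = sec ρ a g := by
  rw [sec_apply, sec_apply, ← map_inv (α v)]
  have hv : π v * π v⁻¹ = 1 := by rw [← map_mul, mul_inv_cancel, map_one]
  have hv' : π v⁻¹ * π v = 1 := by rw [← map_mul, inv_mul_cancel, map_one]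
  calc LinearMap.trace k M (a * ρ (α v g⁻¹))
      = LinearMap.trace k M (a * (π v * ρ g⁻¹) * π v⁻¹) := by
        rw [h.compat, mul_assoc, mul_assoc, hv, mul_one]
    _ = LinearMap.trace k M (π v⁻¹ * (π v * (a * ρ g⁻¹))) := by
        rw [LinearMap.trace_mul_comm, ← mul_assoc a, ← (ha v).eq, mul_assoc (π v)]
    _ = _ := by rw [← mul_assoc, hv', one_mul]

section Fixed

variable [Fintype V]

/-- The operator of a function on the fixed subgroup. -/
noncomputable def evC (α : V →* MulAut K) (ρ : K →* Module.End k M) :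
    (fix α → k) →ₗ[k] Module.End k M :=
  letI := Fintype.ofFinite (fix α)
  ∑ g : fix α, (LinearMap.proj g).smulRight (ρ g)

theorem evC_apply [Fintype (fix α)] (b : fix α → k) : evC α ρ b = ∑ g : fix α, b g • ρ g := by
  simp only [evC, LinearMap.sum_apply, LinearMap.smulRight_apply, LinearMap.proj_apply]
  exact Finset.sum_congr (Finset.ext fun _ => by simp) fun _ _ => rfl

theorem IsAction.commute_evC (h : IsAction p α ρ π) (b : fix α → k) (v : V) :
    Commute (π v) (evC α ρ b) := by
  letI := Fintype.ofFinite (fix α)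
  rw [evC_apply]
  exact Commute.sum_right _ _ _ fun g _ => Commute.smul_right (show π v * ρ g = ρ g * π v by
    rw [h.compat, mem_fix.1 g.2 v]) _

/-- The radical of the trace form on the fixed subgroup. -/
def IsRadical (α : V →* MulAut K) (ρ : K →* Module.End k M) (b : fix α → k) : Prop :=
  ∀ c : fix α, LinearMap.trace k M (evC α ρ b * ρ c) = 0

/-- A point at which every transfer from a hyperplane is visible. -/
def Admissible (p : ℕ) [Fintype V] (c : V → k) : Prop :=
  ∀ a : V → ZMod p, (∀ v w, a (v * w) = a v + a w) → (∃ v, a v ≠ 0) → slope a c ≠ 0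

variable [hp : Fact p.Prime] [CharP k p] {m : ℕ}

theorem exists_separating {R : Subgroup V} (hR : R ≠ ⊤) (hpow : ∀ v : V, v ^ p ∈ R) :
    ∃ a : V → ZMod p, (∀ v w, a (v * w) = a v + a w) ∧ (∀ r ∈ R, a r = 0) ∧ ∃ h, a h = 1 := by
  obtain ⟨g, hg⟩ : ∃ g, g ∉ R := by
    by_contra hall
    push Not at hall
    exact hR (eq_top_iff.2 fun v _ => hall v)
  have key : ∀ (A : Type _) [AddCommGroup A], (∀ x : A, p • x = 0) → ∀ x : A, x ≠ 0 →
      ∃ φ : A →+ ZMod p, φ x = 1 := fun A _ hA x hx => by
    letI := AddCommGroup.zmodModule (n := p) hA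
    obtain ⟨φ, hφ⟩ := Module.Projective.exists_dual_eq_one (ZMod p) hx
    exact ⟨φ.toAddMonoidHom, hφ⟩
  obtain ⟨φ, hφ⟩ := key (Additive (V ⧸ R)) (fun x => by
    obtain ⟨v, hv⟩ := QuotientGroup.mk'_surjective R x.toMul
    rw [← ofMul_toMul x, ← hv, ← ofMul_pow, ← map_pow, QuotientGroup.mk'_apply,
      (QuotientGroup.eq_one_iff _).2 (hpow v), ofMul_one]) (Additive.ofMul (g : V ⧸ R)) fun h0 =>
        hg ((QuotientGroup.eq_one_iff g).1 (ofMul_eq_zero.1 h0))
  refine ⟨fun v => φ (Additive.ofMul (v : V ⧸ R)), fun v w => ?_, fun r hr => ?_, g, hφ⟩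
  · simp only []; rw [QuotientGroup.mk_mul, ofMul_mul, map_add]
  · simp only []; rw [(QuotientGroup.eq_one_iff r).2 hr, ofMul_one, map_zero]

/-- The part outside the fixed subgroup of an invariant function gives transfers. -/
theorem IsAction.moved_mem (h : IsAction p α ρ π) (hm : m + 1 = p) {c : V → k}
    (hc : Admissible p c) (s : K → k) (hs : ∀ v g, s (α v g) = s g) (hs0 : ∀ g ∈ fix α, s g = 0) :
    ev ρ s ∈ LinearMap.range (trForm (point π c) m) := by
  classical
  induction hn : (Finset.univ.filter fun g => s g ≠ 0).card using Nat.strong_induction_on generalizing s with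
  | _ n ih =>
  by_cases hzero : ∀ g, s g = 0
  · rw [show s = 0 from funext hzero, map_zero]; exact Submodule.zero_mem _
  push Not at hzero
  obtain ⟨g0, hg0⟩ := hzero
  let R : Subgroup V :=
    { carrier := {v | α v g0 = g0}
      one_mem' := by simp
      mul_mem' := fun {a b} ha hb => by
        show α (a * b) g0 = g0
        rw [map_mul, MulAut.mul_apply, hb, ha]
      inv_mem' := fun {a} ha => by
        show α a⁻¹ g0 = g0
        rw [map_inv]
        exact (MulEquiv.symm_apply_eq (α a)).2 (Eq.symm ha) }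
  have hR : R ≠ ⊤ := fun e => hg0 (hs0 g0 (mem_fix.2 fun v => (show v ∈ R from e ▸ Subgroup.mem_top v)))
  have hRp : ∀ v, v ^ p ∈ R := fun v => by
    show α (v ^ p) g0 = g0
    rw [map_pow, h.alpha_pow]; rfl
  obtain ⟨a, ha, haR, h0, hh0⟩ := exists_separating hR hRp
  have ha1 : a 1 = 0 := by
    have := ha 1 1
    rw [one_mul] at this
    exact left_eq_add.1 this
  -- the orbit under the hyperplane
  set O : Finset K := (Finset.univ.filter fun v => a v = 0).image fun v => α v g0 with hO
  set b₀ : Module.End k M := ∑ x ∈ O, ρ x with hb₀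
  have hconj : ∀ v (S : Finset K), π v * (∑ x ∈ S, ρ x) * π v⁻¹ = ∑ x ∈ S.image (α v), ρ x := by
    intro v S
    rw [Finset.sum_image fun x _ y _ e => (α v).injective e, Finset.mul_sum, Finset.sum_mul]
    refine Finset.sum_congr rfl fun x _ => ?_
    rw [h.compat, mul_assoc, ← map_mul π, mul_inv_cancel, map_one, mul_one]
  have hb : ∀ r, a r = 0 → Commute (π r) b₀ := by
    intro r hr
    have e : O.image (α r) = O := by
      refine Finset.eq_of_subset_of_card_le (fun x hx => ?_)
        (le_of_eq (Finset.card_image_of_injective _ (α r).injective).symm)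
      simp only [hO, Finset.mem_image, Finset.mem_filter, Finset.mem_univ, true_and] at hx ⊢
      obtain ⟨_, ⟨v, hv, rfl⟩, rfl⟩ := hx
      exact ⟨r * v, by rw [ha, hr, hv, add_zero], by rw [map_mul]; rfl⟩
    have h1 := hconj r O
    rw [e] at h1
    show π r * b₀ = b₀ * π r
    conv_rhs => rw [hb₀, ← h1]
    rw [mul_assoc _ (π r⁻¹), ← map_mul, inv_mul_cancel, map_one, mul_one]
  have hT := transfer_mem_range hm h.pi_pow a ha hh0 c (hc a ha ⟨h0, by rw [hh0]; exact one_ne_zero⟩) b₀ hb
  set U : Finset K := (Finset.univ : Finset V).image fun v => α v g0 with hU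
  have hpowa : ∀ j : ℕ, a (h0 ^ j) = (j : ZMod p) := fun j => by
    induction j with
    | zero => simp [ha1]
    | succ j ihj => rw [pow_succ, ha, ihj, hh0, Nat.cast_succ]
  have hmemO : ∀ (l : ℕ) (x : K), x ∈ O.image (α (h0 ^ l)) ↔ ∃ v, a v = (l : ZMod p) ∧ α v g0 = x := by
    intro l x
    simp only [hO, Finset.mem_image, Finset.mem_filter, Finset.mem_univ, true_and]
    constructor
    · rintro ⟨_, ⟨v, hv, rfl⟩, rfl⟩
      exact ⟨h0 ^ l * v, by rw [ha, hpowa, hv, add_zero], by rw [map_mul]; rfl⟩
    · rintro ⟨v, hv, rfl⟩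
      refine ⟨_, ⟨(h0 ^ l)⁻¹ * v, ?_, rfl⟩, ?_⟩
      · have := ha (h0 ^ l) ((h0 ^ l)⁻¹ * v)
        rw [mul_inv_cancel_left, hv, hpowa] at this
        exact left_eq_add.1 this
      · rw [← MulAut.mul_apply, ← map_mul, mul_inv_cancel_left]
  have hUeq : (∑ x ∈ U, ρ x) = ∑ l ∈ Finset.range p, π (h0 ^ l) * b₀ * π (h0 ^ l)⁻¹ := by
    simp only [hb₀, hconj]
    rw [← Finset.sum_biUnion]
    · refine Finset.sum_congr (Finset.ext fun x => ?_) fun _ _ => rfl
      simp only [hU, Finset.mem_biUnion, Finset.mem_range, hmemO]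
      simp only [Finset.mem_image, Finset.mem_univ, true_and]
      exact ⟨fun ⟨v, hv⟩ => ⟨(a v).val, ZMod.val_lt _, v, (ZMod.natCast_zmod_val _).symm, hv⟩,
        fun ⟨l, _, v, _, hv⟩ => ⟨v, hv⟩⟩
    · intro l hl l' hl' hne
      refine Finset.disjoint_left.2 fun x hx hx' => ?_
      obtain ⟨v, hv, rfl⟩ := (hmemO l x).1 hx
      obtain ⟨w, hw, he⟩ := (hmemO l' _).1 hx'
      have hvw : v⁻¹ * w ∈ R := by
        show α (v⁻¹ * w) g0 = g0
        rw [map_mul, MulAut.mul_apply, he, map_inv]
        exact (α v).symm_apply_apply g0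
      have := ha v (v⁻¹ * w)
      rw [mul_inv_cancel_left, hv, hw, haR _ hvw, add_zero] at this
      refine hne ?_
      rw [ZMod.natCast_eq_natCast_iff', Nat.mod_eq_of_lt (Finset.mem_range.1 hl'),
        Nat.mod_eq_of_lt (Finset.mem_range.1 hl)] at this
      exact this.symm
  rw [← hUeq] at hT
  -- remove the orbit
  set s' : K → k := fun g => if g ∈ U then 0 else s g with hs'
  have hmemU : ∀ v g, α v g ∈ U ↔ g ∈ U := by
    intro v g
    simp only [hU, Finset.mem_image, Finset.mem_univ, true_and]
    constructor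
    · rintro ⟨w, hw⟩
      exact ⟨v⁻¹ * w, by rw [map_mul, MulAut.mul_apply, hw, map_inv]; exact (α v).symm_apply_apply g⟩
    · rintro ⟨w, rfl⟩
      exact ⟨v * w, by rw [map_mul]; rfl⟩
  have hsU : ∀ g ∈ U, s g = s g0 := by
    intro g hg
    simp only [hU, Finset.mem_image, Finset.mem_univ, true_and] at hg
    obtain ⟨v, rfl⟩ := hg
    exact hs v g0
  have hg0U : g0 ∈ U := Finset.mem_image.2 ⟨1, Finset.mem_univ _, by simp⟩
  have hrec := ih (Finset.univ.filter fun g => s' g ≠ 0).card (by
    rw [← hn]
    refine Finset.card_lt_card (Finset.ssubset_iff_of_subset (fun g hg => ?_) |>.2 ⟨g0, ?_, ?_⟩)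
    · simp only [hs', Finset.mem_filter, Finset.mem_univ, true_and] at hg ⊢
      split_ifs at hg <;> first | exact absurd rfl hg | exact hg
    · simp [hg0]
    · simp [hs', hg0U]) s'
    (fun v g => by simp only [hs', hmemU v g, hs v g]) (fun g hg => by simp [hs', hs0 g hg]) rfl
  have e : ev ρ s = s g0 • (∑ x ∈ U, ρ x) + ev ρ s' := by
    rw [ev_apply, ev_apply, Finset.smul_sum, ← Finset.sum_add_sum_compl U (fun g => s g • ρ g),
      ← Finset.sum_add_sum_compl U (fun g => s' g • ρ g)]
    rw [Finset.sum_congr rfl (g := fun g => s g0 • ρ g) fun g hg => by rw [hsU g hg],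
      Finset.sum_eq_zero (s := U) (f := fun g => s' g • ρ g) fun g hg => by simp [hs', hg], zero_add]
    congr 1
    refine Finset.sum_congr rfl fun g hg => ?_
    simp [hs', Finset.mem_compl.1 hg]
  rw [e]
  exact Submodule.add_mem _ (Submodule.smul_mem _ _ hT) hrec

/-- An operator commuting with the group is in the span of the fixed subgroup up to transfers. -/
theorem IsAction.reduce (h : IsAction p α ρ π) (hm : m + 1 = p) {c : V → k} (hc : Admissible p c)
    {a : Module.End k M} (ha : ∀ v, Commute (π v) a) :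
    a - evC α ρ (fun g => ((finrank k M : k) / Nat.card K) * sec ρ a g) ∈
      LinearMap.range (trForm (point π c) m) := by
  classical
  set t : k := (finrank k M : k) / Nat.card K
  set s : K → k := fun g => t * sec ρ a g
  have ea : a = ev ρ s := by
    rw [show s = t • sec ρ a from funext fun g => by simp [s], map_smul]
    simp only [t, div_eq_inv_mul, ← smul_smul, h.ev_sec a, inv_smul_smul₀ h.card_ne]
  have hin : ∀ v g, α v g ∈ fix α ↔ g ∈ fix α := by
    intro v g
    refine ⟨fun hg w => ?_, fun hg => by rwa [mem_fix.1 hg v]⟩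
    have h1 := mem_fix.1 hg w
    rw [← MulAut.mul_apply, ← map_mul, mul_comm w v, map_mul, MulAut.mul_apply] at h1
    exact (α v).injective h1
  set s' : K → k := fun g => if g ∈ fix α then 0 else s g with hs'
  have h1 := h.moved_mem hm hc s'
    (fun v g => by simp only [hs', hin v g, s, h.sec_invariant ha v g]) fun g hg => by simp [hs', hg]
  have e : evC α ρ (fun g => s g) + ev ρ s' = ev ρ s := by
    rw [evC_apply, ev_apply, ev_apply, ← Finset.sum_subtype (Finset.univ.filter (· ∈ fix α))
      (fun g => by simp) (fun g => s g • ρ g), Finset.sum_filter, ← Finset.sum_add_distrib]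
    refine Finset.sum_congr rfl fun g _ => ?_
    simp only [hs']
    split_ifs <;> simp
  show a - evC α ρ (fun g => s g) ∈ _
  nth_rewrite 1 [ea]
  rw [← e, add_sub_cancel_left]
  exact h1

theorem charP_cast_succ (hm : m + 1 = p) : ((m + 1 : ℕ) : k) = 0 := by rw [hm, CharP.cast_eq_zero]

theorem point_nil (h : IsAction p α ρ π) (hm : m + 1 = p) (c : V → k) : point π c ^ (m + 1) = 0 := by
  rw [hm]; exact point_pow_eq_zero h.pi_pow c

theorem IsAction.evC_mem (h : IsAction p α ρ π) (c : V → k) (b : fix α → k) :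
    evC α ρ b ∈ Zc (point π c) := mem_Zc.2 (commute_point c (h.commute_evC b))

theorem IsAction.rho_mem (h : IsAction p α ρ π) (c : V → k) (g : fix α) :
    ρ g ∈ Zc (point π c) :=
  mem_Zc.2 (commute_point c fun v => show π v * ρ g = ρ g * π v by rw [h.compat, mem_fix.1 g.2 v])

/-- The kernel on the layer space. -/
theorem IsAction.kills_iff (h : IsAction p α ρ π) (hm : m + 1 = p) {c : V → k} (hc : Admissible p c)
    (b : fix α → k) : Kills (point π c) m (evC α ρ b) ↔ IsRadical α ρ b := by
  constructor
  · intro hk x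
    refine trace_eq_zero_of_kills (point_nil h hm c) (charP_cast_succ hm)
      ⟨_, mul_mem (h.evC_mem c b) (h.rho_mem c x)⟩ fun v hv => ?_
    exact hk _ (map_ker_le (mem_Zc.1 (h.rho_mem c x)) hv)
  · intro hb
    have h1 := h.reduce hm hc (h.commute_evC b)
    rw [show (fun g : fix α => ((finrank k M : k) / Nat.card K) * sec ρ (evC α ρ b) g) = 0 from
      funext fun g => by
        have := hb g⁻¹
        rw [Subgroup.coe_inv] at this
        rw [sec_apply, this, mul_zero]; rfl, map_zero, sub_zero] at h1
    exact kills_trForm h1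

theorem IsAction.nonzero (h : IsAction p α ρ π) (hm : m + 1 = p) (c : V → k) :
    ¬ LinearMap.ker (point π c) ≤ LinearMap.range (point π c ^ m) := by
  intro hle
  have := trace_eq_zero_of_kills (point_nil h hm c) (charP_cast_succ hm) (1 : Zc (point π c))
    fun v hv => hle hv
  rw [OneMemClass.coe_one, Module.End.one_eq_id, LinearMap.trace_id] at this
  exact h.finrank_ne this

/-- The point has one layer, of extreme size, on which the fixed subgroup acts as all operators. -/
structure Good (α : V →* MulAut K) (ρ : K →* Module.End k M) (X : Module.End k M) (m : ℕ) : Prop where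
  layer : ∃ i, (i = 1 ∨ i = m) ∧ Layer X m i
  full : ∀ L : Module.End k (H0 X m),
    ∃ (b : fix α → k) (hb : evC α ρ b ∈ Zc X), ind X m ⟨_, hb⟩ = L

/-- A point whose commutant is that of the group is good. -/
theorem IsAction.good_of_commutant (h : IsAction p α ρ π) (hm : m + 1 = p) {c : V → k}
    (hc : Admissible p c) (hgen : ∀ a, Commute (point π c) a → ∀ v, Commute (π v) a) :
    Good α ρ (point π c) m := by
  have hZ : ∀ a : Zc (point π c), Kills (point π c) m (a : Module.End k M) →
      (a : Module.End k M) ∈ LinearMap.range (trForm (point π c) m) := by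
    intro a ha
    have hr := h.reduce hm hc (hgen _ (zc_comm a))
    set b : fix α → k := fun g => ((finrank k M : k) / Nat.card K) * sec ρ (a : Module.End k M) g
    have hkb : Kills (point π c) m (evC α ρ b) := fun v hv => by
      have h1 := Submodule.sub_mem _ (ha v hv) (kills_trForm hr v hv)
      rwa [LinearMap.sub_apply, sub_sub_cancel] at h1
    have h2 := h.reduce hm hc (h.commute_evC b)
    have hb := (h.kills_iff hm hc b).1 hkb
    rw [show (fun g : fix α => ((finrank k M : k) / Nat.card K) * sec ρ (evC α ρ b) g) = 0 from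
      funext fun g => by
        have := hb g⁻¹
        rw [Subgroup.coe_inv] at this
        rw [sec_apply, this, mul_zero]; rfl, map_zero, sub_zero] at h2
    have := Submodule.add_mem _ hr h2
    rwa [sub_add_cancel] at this
  obtain ⟨hfull, hlayer⟩ := layer_of_transfer (point_nil h hm c) (h.nonzero hm c) hZ
  refine ⟨hlayer, fun L => ?_⟩
  obtain ⟨a, ha⟩ := hfull L
  have hr := h.reduce hm hc (hgen _ (zc_comm a))
  set b : fix α → k := fun g => ((finrank k M : k) / Nat.card K) * sec ρ (a : Module.End k M) g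
  refine ⟨b, h.evC_mem c b, ?_⟩
  rw [← ha, ← sub_eq_zero, ← map_sub, ind_eq_zero_iff]
  intro v hv
  have h1 := kills_trForm hr v hv
  show evC α ρ b v - (a : Module.End k M) v ∈ _
  rw [← neg_sub]
  exact Submodule.neg_mem _ h1

end Fixed

end CfsgLib.Block.GenericPoint
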