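import Mathlib

/-!
# Spanning by irreducible representations, and cocycles of fractions

An irreducible algebra of operators over an algebraically closed field consists of all operators.  A
function to a fraction field which is a crossed homomorphism up to units of a factorial ring `R` differs
by a coboundary from one with values in the units of `R`.
-/

set_option autoImplicit false

namespace CfsgLib.Block.GenericPoint

open Module

section Burnside

variable {k U : Type*} [Field k] [IsAlgClosed k] [AddCommGroup U] [Module k U] [FiniteDimensional k U]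
  [Nontrivial U]

theorem subalgebra_eq_top (S : Subalgebra k (Module.End k U))
    (hirr : ∀ W : Submodule k U, (∀ a ∈ S, ∀ w ∈ W, a w ∈ W) → W = ⊥ ∨ W = ⊤) : S = ⊤ := by
  classical
  haveI : IsSimpleModule S U := by
    haveI : IsSimpleOrder (Submodule S U) :=
      { exists_pair_ne := ⟨⊥, ⊤, fun e => by
          obtain ⟨x, hx⟩ := exists_ne (0 : U)
          exact hx ((Submodule.mem_bot S).1 (e.symm ▸ Submodule.mem_top))⟩
        eq_bot_or_eq_top := fun W => by
          rcases hirr (W.restrictScalars k) (fun a ha w hw => W.smul_mem ⟨a, ha⟩ hw) with h | h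
          · exact Or.inl ((Submodule.restrictScalars_eq_bot_iff k S U).1 h)
          · exact Or.inr ((Submodule.restrictScalars_eq_top_iff k S U).1 h) }
    exact isSimpleModule_iff _ _ |>.2 this
  have hscal : ∀ φ : Module.End S U, ∃ c : k, ∀ x, φ x = c • x := fun φ => by
    obtain ⟨c, hc⟩ := (IsSimpleModule.algebraMap_end_bijective_of_isAlgClosed k (A := S) (V := U)).2 φ
    exact ⟨c, fun x => by rw [← hc]; rfl⟩
  refine eq_top_iff.2 fun F _ => ?_
  let Φ : Module.End (Module.End S U) U :=
    { toFun := F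
      map_add' := map_add F
      map_smul' := fun φ x => by
        obtain ⟨c, hc⟩ := hscal φ
        simp only [Module.End.smul_def, RingHom.id_apply, hc, map_smul] }
  let B := Module.finBasis k U
  obtain ⟨a, ha⟩ := jacobson_density (R := S) Φ (Finset.univ.image B)
  have e : F = (a : Module.End k U) := B.ext fun j =>
    ha (B j) (Finset.mem_image_of_mem _ (Finset.mem_univ j))
  exact e ▸ a.2

theorem span_range_eq_top {C : Type*} [Monoid C] (τ : C →* Module.End k U)
    (hirr : ∀ W : Submodule k U, (∀ x, ∀ w ∈ W, τ x w ∈ W) → W = ⊥ ∨ W = ⊤) :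
    Submodule.span k (Set.range τ) = ⊤ := by
  have h := subalgebra_eq_top (Algebra.adjoin k (Set.range τ)) fun W hW =>
    hirr W fun x w hw => hW _ (Algebra.subset_adjoin ⟨x, rfl⟩) w hw
  have e := congrArg Subalgebra.toSubmodule h
  rw [Algebra.adjoin_eq_span, show Set.range τ = (MonoidHom.mrange τ : Set (Module.End k U)) from
    (MonoidHom.coe_mrange τ).symm, Submonoid.closure_eq, Algebra.top_toSubmodule] at e
  rwa [MonoidHom.coe_mrange] at e

end Burnside

section Cocycle

variable {R K : Type*} [CommRing R] [IsDomain R] [UniqueFactorizationMonoid R] [Field K] [Algebra R K]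
  [IsFractionRing R K]

/-- A finite family of nonzero fractions is a common multiple of a coprime family. -/
theorem exists_primitive {G : Type*} [Fintype G] [Nonempty G] (lam : G → K) (hlam : ∀ g, lam g ≠ 0) :
    ∃ (δ : K) (P : G → R), δ ≠ 0 ∧ (∀ g, lam g = δ * algebraMap R K (P g)) ∧
      ∀ t : R, (∀ g, t ∣ P g) → IsUnit t := by
  classical
  obtain ⟨b, hb⟩ := IsLocalization.exist_integer_multiples_of_finite (nonZeroDivisors R) lam
  choose f hf using hb
  have hb0 : algebraMap R K b ≠ 0 :=
    (map_ne_zero_iff _ (IsFractionRing.injective R K)).2 (nonZeroDivisors.ne_zero b.2)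
  have hf0 : ∀ g, f g ≠ 0 := fun g h0 => by
    have := hf g
    rw [h0, map_zero, Algebra.smul_def] at this
    exact mul_ne_zero hb0 (hlam g) this.symm
  obtain ⟨g0⟩ := ‹Nonempty G›
  have hwf := wellFounded_dvdNotUnit (α := R)
  obtain ⟨q, ⟨d, hd, hdq⟩, hmin⟩ := hwf.has_min {q | ∃ d, (∀ g, d ∣ f g) ∧ f g0 = d * q}
    ⟨f g0, 1, fun g => one_dvd _, (one_mul _).symm⟩
  choose P hP using hd
  have hd0 : d ≠ 0 := fun h0 => hf0 g0 (by rw [hP, h0, zero_mul])
  refine ⟨algebraMap R K d / algebraMap R K b, P, div_ne_zero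
    ((map_ne_zero_iff _ (IsFractionRing.injective R K)).2 hd0) hb0, fun g => ?_, fun t ht => ?_⟩
  · have := hf g
    rw [Algebra.smul_def, hP, map_mul] at this
    rw [div_mul_eq_mul_div, eq_div_iff hb0, this, mul_comm]
  · by_contra htu
    obtain ⟨q', hq'⟩ := ht g0
    have hq : q = t * q' := mul_left_cancel₀ hd0 (by rw [← hdq, hP g0, hq'])
    refine hmin q' ⟨d * t, fun g => ?_, by rw [hdq, hq, mul_assoc]⟩ ⟨?_, t, htu, by rw [hq, mul_comm]⟩
    · rw [hP g]; exact mul_dvd_mul_left d (ht g)
    · intro h0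
      exact hf0 g0 (by rw [hdq, hq, h0, mul_zero, mul_zero])

theorem exists_descent {G : Type*} [Group G] [Fintype G] (φ : G → R ≃+* R) (Φ : G → K ≃+* K)
    (hΦ : ∀ g r, Φ g (algebraMap R K r) = algebraMap R K (φ g r)) (lam : G → K) (hlam : ∀ g, lam g ≠ 0)
    (hcoc : ∀ g h, ∃ u : Rˣ, lam (g * h) = algebraMap R K u * (lam g * Φ g (lam h))) :
    ∃ δ : K, δ ≠ 0 ∧ ∀ g, ∃ u : Rˣ, lam g * Φ g δ = algebraMap R K u * δ := by
  classical
  obtain ⟨δ, P, hδ, hP, hprim⟩ := exists_primitive (R := R) lam hlam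
  refine ⟨δ, hδ, fun g => ?_⟩
  obtain ⟨A, B, hred, hAB⟩ := IsFractionRing.exists_reduced_fraction R (lam g * Φ g δ / δ)
  have hB0 : algebraMap R K B ≠ 0 :=
    (map_ne_zero_iff _ (IsFractionRing.injective R K)).2 (nonZeroDivisors.ne_zero B.2)
  rw [IsFractionRing.mk'_eq_div, div_eq_div_iff hB0 hδ] at hAB
  have key : ∀ h, ∃ u : Rˣ, A * φ g (P h) = u * (B * P (g * h)) := fun h => by
    obtain ⟨u, hu⟩ := hcoc g h
    rw [hP (g * h), hP h, map_mul, hΦ] at hu
    refine ⟨u⁻¹, IsFractionRing.injective R K (mul_left_cancel₀ hδ ?_)⟩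
    have h1 : algebraMap R K (u⁻¹ : Rˣ) * algebraMap R K (u : R) = 1 := by
      rw [← map_mul, Units.inv_mul, map_one]
    simp only [map_mul]
    linear_combination algebraMap R K (φ g (P h)) * hAB -
      algebraMap R K (u⁻¹ : Rˣ) * algebraMap R K (B : R) * hu -
      (algebraMap R K (B : R) * lam g * Φ g δ * algebraMap R K (φ g (P h))) * h1
  have hB : IsUnit (B : R) := by
    have h1 : IsUnit ((φ g).symm B) := hprim _ fun h => by
      obtain ⟨u, hu⟩ := key h
      have h2 : (B : R) ∣ φ g (P h) := (hred.symm).dvd_of_dvd_mul_left ⟨u * P (g * h), by rw [hu]; ring⟩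
      have := map_dvd (φ g).symm h2
      rwa [RingEquiv.symm_apply_apply] at this
    simpa using h1.map (φ g)
  have hA : IsUnit A := hprim A fun h => by
    obtain ⟨u, hu⟩ := key (g⁻¹ * h)
    rw [mul_inv_cancel_left] at hu
    have h2 : A ∣ (u : R) * (B * P h) := ⟨_, hu.symm⟩
    exact (hB.dvd_mul_left).1 ((u.isUnit.dvd_mul_left).1 h2)
  obtain ⟨u, hu⟩ : IsUnit (A * (hB.unit⁻¹ : Rˣ)) := hA.mul (Units.isUnit _)
  refine ⟨u, ?_⟩
  have h1 : algebraMap R K (B : R) * algebraMap R K ((hB.unit⁻¹ : Rˣ) : R) = 1 := by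
    rw [← map_mul, IsUnit.mul_val_inv, map_one]
  rw [hu, map_mul]
  linear_combination (-algebraMap R K ((hB.unit⁻¹ : Rˣ) : R)) * hAB - lam g * Φ g δ * h1

end Cocycle

end CfsgLib.Block.GenericPoint
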