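import Cfsg.Agent.Lib.Block.GenericPoint.Generic
import Cfsg.Agent.Lib.Block.GenericPoint.Burnside

/-!
# Descent from the generic point

The normaliser of the acting group permutes the variables, so it acts semilinearly on the layer space.
Its defect from a representation over `k` is a crossed homomorphism to the function field up to
constants, hence trivial: the correspondent of the representation extends to the normaliser.
-/

set_option autoImplicit false

namespace CfsgLib.Block.GenericPoint

open Module LinearMap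

section Perm

variable {k : Type*} [Field k] {V : Type*}

/-- Permutation of the variables on polynomials. -/
noncomputable def polyPerm (σ : Equiv.Perm V) : MvPolynomial V k ≃+* MvPolynomial V k :=
  (MvPolynomial.renameEquiv k σ).toRingEquiv

/-- Permutation of the variables on the generic field. -/
noncomputable def fieldPerm (σ : Equiv.Perm V) : GF k V ≃+* GF k V :=
  IsFractionRing.ringEquivOfRingEquiv (polyPerm (k := k) σ)

theorem fieldPerm_algebraMap (σ : Equiv.Perm V) (r : MvPolynomial V k) :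
    fieldPerm σ (algebraMap _ (GF k V) r) = algebraMap _ (GF k V) (polyPerm σ r) :=
  IsFractionRing.ringEquivOfRingEquiv_algebraMap (K := GF k V) (L := GF k V) (polyPerm σ) r

theorem fieldPerm_xi (σ : Equiv.Perm V) (v : V) : fieldPerm σ (xi k v) = xi k (σ v) := by
  rw [xi, fieldPerm_algebraMap]
  exact congrArg _ (MvPolynomial.rename_X _ _)

theorem fieldPerm_const (σ : Equiv.Perm V) (c : k) :
    fieldPerm σ (algebraMap k (GF k V) c) = algebraMap k (GF k V) c := by
  rw [IsScalarTower.algebraMap_apply k (MvPolynomial V k) (GF k V), fieldPerm_algebraMap]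
  exact congrArg _ (MvPolynomial.rename_C _ _)

theorem fieldPerm_mul (σ τ : Equiv.Perm V) (x : GF k V) :
    fieldPerm (σ * τ) x = fieldPerm σ (fieldPerm τ x) := by
  have e : (fieldPerm (k := k) (σ * τ)).toRingHom = (fieldPerm σ).toRingHom.comp (fieldPerm τ).toRingHom := by
    refine IsLocalization.ringHom_ext (nonZeroDivisors (MvPolynomial V k)) (RingHom.ext fun r => ?_)
    simp only [RingHom.comp_apply, RingEquiv.toRingHom_eq_coe, RingEquiv.coe_toRingHom, fieldPerm_algebraMap]
    congr 1
    show MvPolynomial.rename (σ * τ) r = MvPolynomial.rename σ (MvPolynomial.rename τ r)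
    rw [MvPolynomial.rename_rename]
    rfl
  exact RingHom.congr_fun e x

theorem fieldPerm_one (x : GF k V) : fieldPerm 1 x = x :=
  (fieldPerm 1).injective ((fieldPerm_mul 1 1 x).symm.trans (by rw [one_mul]))

theorem exists_const_of_unit (u : (MvPolynomial V k)ˣ) :
    ∃ c : k, c ≠ 0 ∧ (u : MvPolynomial V k) = MvPolynomial.C c := by
  obtain ⟨r, hr, e⟩ := MvPolynomial.isUnit_iff_eq_C_of_isReduced.1 u.isUnit
  exact ⟨r, hr.ne_zero, e⟩

end Perm

section

variable {k : Type*} [Field k] (k' : Type*) [Field k'] [Algebra k k'] {ι : Type*} [Fintype ι]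
  [DecidableEq ι]

theorem bc_apply (a : Module.End k (ι → k)) (v : ι → k') :
    bc k' a v = Matrix.mulVec ((Matrix.toLinAlgEquiv'.symm a).map (algebraMap k k')) v := rfl

theorem bc_map_vec (a : Module.End k (ι → k)) (Φ : k' ≃+* k') (hΦ : ∀ c, Φ (algebraMap k k' c) = algebraMap k k' c)
    (v : ι → k') : (fun i => Φ (bc k' a v i)) = bc k' a fun i => Φ (v i) := by
  funext i
  rw [bc_apply, bc_apply]
  refine ((Φ : k' →+* k').map_mulVec _ v i).trans (congrFun (congrArg (Matrix.mulVec · _) ?_) i)
  ext a b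
  exact hΦ _

theorem bc_scalar (t : k) : bc k' (t • (1 : Module.End k (ι → k))) = algebraMap k k' t • 1 := by
  rw [bc_smul, map_one]

end

/-- A full representation over an extension field has a form over an algebraically closed field. -/
theorem exists_kForm {k k' : Type*} [Field k] [IsAlgClosed k] [Field k'] [Algebra k k'] {C : Type*} [Group C]
    [Finite C] {H : Type*} [AddCommGroup H] [Module k H] [Module k' H] [IsScalarTower k k' H] [Nontrivial H]
    (ρH : C →* Module.End k' H) (hfull : Submodule.span k' (Set.range ρH) = ⊤) :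
    ∃ (e : ℕ) (τ : C →* Matrix (Fin e) (Fin e) k) (u : Fin e → H) (TE : (Fin e → k') ≃ₗ[k'] H),
      0 < e ∧ Submodule.span k (Set.range τ) = ⊤ ∧
      (∀ i j, Matrix.single i j (1 : k') ∈
        Submodule.span k' (Set.range ((algebraMap k k').mapMatrix.toMonoidHom.comp τ))) ∧
      (∀ v, TE v = ∑ i, v i • u i) ∧
      ∀ c j, ρH c (u j) = ∑ i, algebraMap k k' (τ c i j) • u i := by
  classical
  obtain ⟨u0, hu0⟩ := exists_ne (0 : H)
  let ρk : C → (H →ₗ[k] H) := fun c => (ρH c).restrictScalars k
  let U1 : Submodule k H := Submodule.span k (Set.range fun c => ρH c u0)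
  haveI : FiniteDimensional k U1 := FiniteDimensional.span_of_finite k (Set.finite_range _)
  have hU1 : ∀ c, ∀ v ∈ U1, ρk c v ∈ U1 := fun c v hv => by
    induction hv using Submodule.span_induction with
    | mem x hx =>
      obtain ⟨d, rfl⟩ := hx
      exact Submodule.subset_span ⟨c * d, by simp [ρk, map_mul]⟩
    | zero => rw [map_zero]; exact U1.zero_mem
    | add x y _ _ hx hy => rw [map_add]; exact U1.add_mem hx hy
    | smul t x _ hx => rw [map_smul]; exact U1.smul_mem _ hx
  have hex : ∃ n, ∃ U : Submodule k H, U ≠ ⊥ ∧ U ≤ U1 ∧ (∀ c, ∀ v ∈ U, ρk c v ∈ U) ∧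
      finrank k U = n :=
    ⟨_, U1, fun hb => hu0 ((Submodule.mem_bot k).1 (hb ▸ (Submodule.subset_span ⟨1, by simp⟩ : u0 ∈ U1))),
      le_rfl, hU1, rfl⟩
  obtain ⟨U, hU0, hUle, hUinv, hUn⟩ := Nat.find_spec hex
  haveI : FiniteDimensional k U := Submodule.finiteDimensional_of_le hUle
  haveI : Nontrivial U := Submodule.nontrivial_iff_ne_bot.2 hU0
  let τ0 : C →* Module.End k U :=
    { toFun := fun c => (ρk c).restrict (hUinv c)
      map_one' := LinearMap.ext fun v => Subtype.ext (by simp [ρk])
      map_mul' := fun a b => LinearMap.ext fun v => Subtype.ext (by simp [ρk, map_mul]) }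
  have hirr : ∀ U' : Submodule k U, (∀ c, ∀ v ∈ U', τ0 c v ∈ U') → U' = ⊥ ∨ U' = ⊤ := by
    intro U' hU'
    by_contra hcon
    push Not at hcon
    have h1 : finrank k (U'.map U.subtype) < finrank k U := by
      rw [(Submodule.equivMapOfInjective U.subtype (Submodule.subtype_injective _) U').symm.finrank_eq]
      exact Submodule.finrank_lt hcon.2
    refine Nat.find_min hex (hUn ▸ h1) ⟨_, fun hb => hcon.1 ?_, (Submodule.map_subtype_le U U').trans hUle,
      ?_, rfl⟩
    · exact Submodule.map_injective_of_injective (Submodule.subtype_injective U) (hb.trans (Submodule.map_bot _).symm)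
    · rintro c _ ⟨v, hv, rfl⟩
      exact ⟨τ0 c v, hU' c v hv, rfl⟩
  set e := finrank k U with he
  let b := Module.finBasis k U
  let τ : C →* Matrix (Fin e) (Fin e) k := (LinearMap.toMatrixAlgEquiv b).toMonoidHom.comp τ0
  have hτfull : Submodule.span k (Set.range τ) = ⊤ := by
    rw [show Set.range τ = (LinearMap.toMatrixAlgEquiv b).toLinearMap '' Set.range τ0 from
      (by rw [← Set.range_comp]; rfl), Submodule.span_image, span_range_eq_top τ0 hirr, Submodule.map_top,
      LinearMap.range_eq_top]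
    exact (LinearMap.toMatrixAlgEquiv b).surjective
  let u : Fin e → H := fun j => (b j : H)
  have hτu : ∀ c j, ρH c (u j) = ∑ i, algebraMap k k' (τ c i j) • u i := by
    intro c j
    have h1 := congrArg (fun v : U => (v : H)) (b.sum_repr (τ0 c (b j)))
    simp only [AddSubmonoidClass.coe_finsetSum, Submodule.coe_smul] at h1
    refine Eq.trans (Eq.trans rfl h1.symm) (Finset.sum_congr rfl fun i _ => ?_)
    rw [algebraMap_smul]
    simp [τ, LinearMap.toMatrixAlgEquiv_apply, u]
  -- `u` is a basis over the generic field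
  let τ' : C →* Matrix (Fin e) (Fin e) k' := (algebraMap k k').mapMatrix.toMonoidHom.comp τ
  have hsingle : ∀ i j, Matrix.single i j (1 : k') ∈ Submodule.span k' (Set.range τ') := by
    intro i j
    have h1 : Matrix.single i j (1 : k) ∈ Submodule.span k (Set.range τ) := hτfull ▸ Submodule.mem_top
    have h2 : ∀ x ∈ Submodule.span k (Set.range τ),
        x.map (algebraMap k k') ∈ Submodule.span k' (Set.range τ') := by
      intro x hx
      induction hx using Submodule.span_induction with
      | mem x hx => obtain ⟨c, rfl⟩ := hx; exact Submodule.subset_span ⟨c, rfl⟩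
      | zero => simp
      | add x y _ _ hx hy => rw [Matrix.map_add _ (map_add _)]; exact Submodule.add_mem _ hx hy
      | smul t x _ hx => rw [Matrix.map_smul' _ _ _ (map_mul _)]; exact Submodule.smul_mem _ _ hx
    have := h2 _ h1
    simpa [Matrix.map_single] using this
  let T : (Fin e → k') →ₗ[k'] H := Fintype.linearCombination k' u
  have hT : ∀ c v, T (Matrix.mulVec (τ' c) v) = ρH c (T v) := by
    intro c v
    simp only [T, Fintype.linearCombination_apply, map_sum, map_smul, hτu, Finset.smul_sum, smul_smul,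
      Matrix.mulVec, dotProduct, Finset.sum_smul]
    rw [Finset.sum_comm]
    exact Finset.sum_congr rfl fun j _ => Finset.sum_congr rfl fun i _ => by
      rw [mul_comm]; rfl
  have hu_ne : ∀ j, u j ≠ 0 := fun j h0 => b.ne_zero j (Subtype.ext h0)
  have hkerT : ∀ v, T v = 0 → v = 0 := by
    intro v hv
    by_contra hne
    obtain ⟨j, hj⟩ := Function.ne_iff.1 hne
    have hspan : ∀ A ∈ Submodule.span k' (Set.range τ'), T (Matrix.mulVec A v) = 0 := by
      intro A hA
      induction hA using Submodule.span_induction with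
      | mem x hx => obtain ⟨c, rfl⟩ := hx; rw [hT, hv, map_zero]
      | zero => simp
      | add x y _ _ hx hy => rw [Matrix.add_mulVec, map_add, hx, hy, add_zero]
      | smul t x _ hx => rw [Matrix.smul_mulVec, map_smul, hx, smul_zero]
    have := hspan _ (hsingle j j)
    rw [show Matrix.mulVec (Matrix.single j j (1 : k')) v = Pi.single j (v j) by
      rw [Matrix.single_mulVec, one_mul]; rfl,
      show T (Pi.single j (v j)) = v j • u j by simp [T, Fintype.linearCombination_apply_single]] at this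
    exact hu_ne j ((smul_eq_zero.1 this).resolve_left hj)
  have hTsurj : Function.Surjective T := by
    rw [← LinearMap.range_eq_top, eq_top_iff]
    rintro x -
    have he0 : 0 < e := Module.finrank_pos
    obtain ⟨φ, hφ⟩ := Module.Projective.exists_dual_eq_one k' (hu_ne ⟨0, he0⟩)
    have hL : LinearMap.smulRight φ x ∈ Submodule.span k' (Set.range ρH) := hfull ▸ Submodule.mem_top
    have hkey : ∀ L ∈ Submodule.span k' (Set.range ρH), ∀ y ∈ LinearMap.range T, L y ∈ LinearMap.range T := by
      intro L hL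
      induction hL using Submodule.span_induction with
      | mem x hx =>
        obtain ⟨c, rfl⟩ := hx
        rintro _ ⟨v, rfl⟩
        exact ⟨_, hT c v⟩
      | zero => simp
      | add x y _ _ hx hy => exact fun z hz => Submodule.add_mem _ (hx z hz) (hy z hz)
      | smul t x _ hx => exact fun z hz => Submodule.smul_mem _ _ (hx z hz)
    have := hkey _ hL (u ⟨0, he0⟩) ⟨Pi.single ⟨0, he0⟩ 1, by simp [T, Fintype.linearCombination_apply_single]⟩
    simpa [hφ] using this
  let TE : (Fin e → k') ≃ₗ[k'] H :=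
    LinearEquiv.ofBijective T ⟨LinearMap.ker_eq_bot.1 (LinearMap.ker_eq_bot'.2 hkerT), hTsurj⟩
  exact ⟨e, τ, u, TE, Module.finrank_pos, hτfull, hsingle, fun v => Fintype.linearCombination_apply _ _ _, hτu⟩

/-- Semilinear matrices intertwining a representation over `k` descend to `k`. -/
theorem exists_descended {k : Type*} [Field k] {V : Type*} {N : Type*} [Group N] [Finite N] {C : Type*}
    [Group C] (θ : N →* Equiv.Perm V) {e : ℕ} (he0 : 0 < e) (τ : C →* Matrix (Fin e) (Fin e) k)
    (hτfull : Submodule.span k (Set.range τ) = ⊤)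
    (hsingle : ∀ i j, Matrix.single i j (1 : GF k V) ∈
      Submodule.span (GF k V) (Set.range ((algebraMap k (GF k V)).mapMatrix.toMonoidHom.comp τ)))
    (iC : C → N) (hiC : Function.Injective iC) (hΦC : ∀ c x, fieldPerm (k := k) (θ (iC c)) x = x)
    (hconj : ∀ (g : N) (c : C), ∃ c' : C, iC c' = g * iC c * g⁻¹)
    (Λ : N → Matrix (Fin e) (Fin e) (GF k V)) (hΛ1 : Λ 1 = 1)
    (hΛmul : ∀ g h, Λ (g * h) = Λ g * (Λ h).map (fieldPerm (θ g)))
    (hΛC : ∀ c, Λ (iC c) = (algebraMap k (GF k V)).mapMatrix (τ c)) :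
    ∃ Mg : N →* Matrix (Fin e) (Fin e) k, (∀ c, Mg (iC c) = τ c) ∧
      ∀ (z : N) (t : k), θ z = 1 → Λ z = algebraMap k (GF k V) t • 1 → Mg z = t • 1 := by
  classical
  let GF' := GF k V
  let Φ : N → GF' ≃+* GF' := fun g => fieldPerm (θ g)
  let τ' : C →* Matrix (Fin e) (Fin e) GF' := (algebraMap k GF').mapMatrix.toMonoidHom.comp τ
  have hΦmul : ∀ g h x, Φ (g * h) x = Φ g (Φ h x) := fun g h x => by
    show fieldPerm (θ (g * h)) x = _
    rw [map_mul, fieldPerm_mul]
  have hΦc : ∀ g c, Φ g (algebraMap k GF' c) = algebraMap k GF' c := fun g c => fieldPerm_const _ _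
  have hmapC : ∀ g c, (τ' c).map (Φ g) = τ' c := fun g c => by ext i j; exact hΦc g _
  have hinter : ∀ g c, ∃ c', iC c' = g * iC c * g⁻¹ ∧ Λ g * τ' c = τ' c' * Λ g := fun g c => by
    obtain ⟨c', hc'⟩ := hconj g c
    refine ⟨c', hc', ?_⟩
    have h1 : Λ (g * iC c) = Λ g * τ' c := by
      rw [hΛmul, hΛC]; exact congrArg _ (hmapC g c)
    have h2 : Λ (iC c' * g) = τ' c' * Λ g := by
      rw [hΛmul, hΛC]
      exact congrArg _ (by ext i j; exact hΦC c' _)
    rw [hc', inv_mul_cancel_right] at h2
    rw [← h1, h2]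
  have hunit : ∀ g, Λ g * (Λ g⁻¹).map (Φ g) = 1 := fun g => by rw [← hΛmul, mul_inv_cancel, hΛ1]
  -- constant intertwiners
  have hD : ∀ g : N, ∃ (D : Matrix (Fin e) (Fin e) k) (lam : GF'), lam ≠ 0 ∧
      Λ g = lam • D.map (algebraMap k GF') := by
    intro g
    haveI : Nonempty (Fin e) := ⟨⟨0, he0⟩⟩
    have hne : Λ g ≠ 0 := fun h0 => by
      have := hunit g
      rw [h0, zero_mul] at this
      exact zero_ne_one this
    obtain ⟨i0, j0, h0⟩ : ∃ i j, Λ g i j ≠ 0 := by
      by_contra hall
      push Not at hall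
      exact hne (Matrix.ext hall)
    obtain ⟨φ, hφ⟩ := Module.Projective.exists_dual_eq_one k h0
    set D : Matrix (Fin e) (Fin e) k := (Λ g).map φ with hDdef
    have hDint : ∀ c, ∃ c', iC c' = g * iC c * g⁻¹ ∧ D * τ c = τ c' * D := fun c => by
      obtain ⟨c', hc', h⟩ := hinter g c
      refine ⟨c', hc', ?_⟩
      ext i j
      have h1 := congrArg φ (congrFun (congrFun h i) j)
      simp only [Matrix.mul_apply, map_sum] at h1 ⊢
      refine Eq.trans ?_ (h1.trans ?_)
      · refine Finset.sum_congr rfl fun l _ => ?_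
        show φ (Λ g i l) * τ c l j = φ (Λ g i l * algebraMap k GF' (τ c l j))
        rw [mul_comm (Λ g i l), ← Algebra.smul_def, map_smul, smul_eq_mul, mul_comm]
      · refine Finset.sum_congr rfl fun l _ => ?_
        show φ (algebraMap k GF' (τ c' i l) * Λ g l j) = τ c' i l * φ (Λ g l j)
        rw [← Algebra.smul_def, map_smul, smul_eq_mul]
    have hker : ∀ v, Matrix.mulVec D v = 0 → v = 0 := by
      intro v hv
      by_contra hne'
      obtain ⟨j, hj⟩ := Function.ne_iff.1 hne'
      have hall : ∀ A ∈ Submodule.span k (Set.range τ), Matrix.mulVec D (Matrix.mulVec A v) = 0 := by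
        intro A hA
        induction hA using Submodule.span_induction with
        | mem x hx =>
          obtain ⟨c, rfl⟩ := hx
          obtain ⟨c', -, hcc⟩ := hDint c
          rw [Matrix.mulVec_mulVec, hcc, ← Matrix.mulVec_mulVec, hv, Matrix.mulVec_zero]
        | zero => simp
        | add x y _ _ hx hy => rw [Matrix.add_mulVec, Matrix.mulVec_add, hx, hy, add_zero]
        | smul t x _ hx => rw [Matrix.smul_mulVec, Matrix.mulVec_smul, hx, smul_zero]
      have h1 := congrFun (hall (Matrix.single j0 j (1 : k)) (hτfull ▸ Submodule.mem_top)) i0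
      rw [Matrix.single_mulVec, one_mul, show Function.update (0 : Fin e → k) j0 (v j) = Pi.single j0 (v j) from rfl,
        Matrix.mulVec_single] at h1
      simp [D, hφ] at h1
      exact hj h1
    have hDu : IsUnit D := Matrix.mulVec_injective_iff_isUnit.1 fun a b hab => sub_eq_zero.1
      (hker _ (by rw [Matrix.mulVec_sub, hab, sub_self]))
    obtain ⟨Di, hDi⟩ := hDu.exists_left_inv
    set Q := Di.map (algebraMap k GF') * Λ g with hQ
    have hQc : ∀ c, Q * τ' c = τ' c * Q := fun c => by
      obtain ⟨c', hc', h⟩ := hinter g c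
      obtain ⟨c'', hc'', h'⟩ := hDint c
      obtain rfl : c'' = c' := hiC (hc''.trans hc'.symm)
      have h3 : Di * τ c'' = τ c * Di := by
        have h4 := congrArg (fun x => Di * x * Di) h'
        have hDi' : D * Di = 1 := mul_eq_one_comm.1 hDi
        rw [← mul_assoc Di, hDi, one_mul, mul_assoc _ _ Di, mul_assoc _ _ Di, hDi', mul_one] at h4
        exact h4.symm
      rw [hQ, mul_assoc, h, ← mul_assoc,
        show Di.map (algebraMap k GF') * τ' c'' = τ' c * Di.map (algebraMap k GF') from by
          show (algebraMap k GF').mapMatrix Di * (algebraMap k GF').mapMatrix (τ c'') =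
            (algebraMap k GF').mapMatrix (τ c) * (algebraMap k GF').mapMatrix Di
          rw [← map_mul, h3, map_mul], mul_assoc]
    obtain ⟨lam, hlam⟩ := Matrix.mem_range_scalar_of_commute_single (M := Q) fun i j _ => by
      have : ∀ A ∈ Submodule.span GF' (Set.range τ'), Commute A Q := fun A hA => by
        induction hA using Submodule.span_induction with
        | mem x hx => obtain ⟨c, rfl⟩ := hx; exact (hQc c).symm
        | zero => exact Commute.zero_left _
        | add x y _ _ hx hy => exact hx.add_left hy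
        | smul t x _ hx => exact hx.smul_left t
      exact this _ (hsingle i j)
    have hΛD : Λ g = lam • D.map (algebraMap k GF') := by
      have h1 : D.map (algebraMap k GF') * Q = Λ g := by
        rw [hQ, ← mul_assoc, show D.map (algebraMap k GF') * Di.map (algebraMap k GF') = 1 by
          rw [← RingHom.mapMatrix_apply, ← RingHom.mapMatrix_apply, ← map_mul, mul_eq_one_comm.1 hDi, map_one],
        one_mul]
      rw [← h1, ← hlam, Matrix.scalar_apply, ← Matrix.smul_one_eq_diagonal, Matrix.mul_smul, mul_one]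
    refine ⟨D, lam, fun h0' => hne ?_, hΛD⟩
    rw [hΛD, h0', zero_smul]
  choose D lam hlam hΛD using hD
  have hDne : ∀ g, D g ≠ 0 := fun g h0 => by
    have h00 := hunit g
    rw [hΛD g, h0, Matrix.map_zero _ (map_zero _), smul_zero, zero_mul] at h00
    haveI : Nonempty (Fin e) := ⟨⟨0, he0⟩⟩
    exact zero_ne_one h00
  have hcoc : ∀ g h, ∃ x : (MvPolynomial V k)ˣ,
      lam (g * h) = algebraMap _ GF' (x : MvPolynomial V k) * (lam g * Φ g (lam h)) := by
    intro g h
    have h1 := hΛmul g h
    rw [hΛD g, hΛD h, hΛD (g * h), Matrix.map_smul' _ _ _ (map_mul _),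
      show ((D h).map (algebraMap k GF')).map (Φ g) = (D h).map (algebraMap k GF') by
        ext i j; exact hΦc g _, Matrix.smul_mul, Matrix.mul_smul, smul_smul, ← Matrix.map_mul] at h1
    obtain ⟨i, j, hij⟩ : ∃ i j, D (g * h) i j ≠ 0 := by
      by_contra hall
      push Not at hall
      exact hDne _ (Matrix.ext hall)
    have h2 := congrFun (congrFun h1 i) j
    simp only [Matrix.smul_apply, Matrix.map_apply, smul_eq_mul] at h2
    have hr : (D g * D h) i j ≠ 0 := by
      intro h0
      rw [h0, map_zero, mul_zero] at h2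
      exact hij ((map_eq_zero _).1 ((mul_eq_zero.1 h2).resolve_left (hlam _)))
    refine ⟨(Ne.isUnit (div_ne_zero hr hij)).unit.map (MvPolynomial.C : k →+* MvPolynomial V k).toMonoidHom, ?_⟩
    show lam (g * h) = algebraMap _ GF' (MvPolynomial.C ((D g * D h) i j / D (g * h) i j)) * _
    rw [show algebraMap (MvPolynomial V k) GF' (MvPolynomial.C ((D g * D h) i j / D (g * h) i j)) =
      algebraMap k GF' ((D g * D h) i j / D (g * h) i j) from
        (IsScalarTower.algebraMap_apply k (MvPolynomial V k) GF' _).symm, map_div₀, div_mul_eq_mul_div,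
      eq_div_iff ((map_ne_zero _).2 hij), h2]
    ring
  letI := Fintype.ofFinite N
  obtain ⟨δ, hδ, hδc⟩ := exists_descent (R := MvPolynomial V k) (fun g => polyPerm (θ g)) Φ
    (fun g r => fieldPerm_algebraMap _ _) lam hlam hcoc
  have hcc : ∀ g, ∃ c : k, lam g * Φ g δ = algebraMap k GF' c * δ := fun g => by
    obtain ⟨x, hx⟩ := hδc g
    obtain ⟨c, -, hc⟩ := exists_const_of_unit x
    exact ⟨c, hx.trans (by rw [hc, IsScalarTower.algebraMap_apply k (MvPolynomial V k) GF']; rfl)⟩
  choose c hc using hcc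
  let Mg : N → Matrix (Fin e) (Fin e) k := fun g => c g • D g
  have hMg : ∀ g, (Mg g).map (algebraMap k GF') = (Φ g δ / δ) • Λ g := fun g => by
    rw [Matrix.map_smul' _ _ _ (map_mul _), hΛD g, smul_smul]
    congr 1
    rw [div_mul_eq_mul_div, eq_div_iff hδ, ← hc g, mul_comm]
  have hMmul : ∀ g h, Mg (g * h) = Mg g * Mg h := fun g h => by
    refine Matrix.map_injective (algebraMap k GF').injective ?_
    have h0 : (Mg h).map (algebraMap k GF') = ((Mg h).map (algebraMap k GF')).map (Φ g) := by
      ext i j; exact (hΦc g _).symm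
    show (Mg (g * h)).map (algebraMap k GF') = (Mg g * Mg h).map (algebraMap k GF')
    rw [Matrix.map_mul, h0, hMg g, hMg h, hMg (g * h), hΛmul,
      Matrix.map_smul' _ _ _ (map_mul _), Matrix.smul_mul, Matrix.mul_smul, smul_smul, hΦmul,
      map_div₀]
    congr 1
    have hg : Φ g δ ≠ 0 := (map_ne_zero _).2 hδ
    rw [div_mul_div_comm, mul_comm δ, mul_div_mul_left _ _ hg]
  have hM1 : Mg 1 = 1 := by
    refine Matrix.map_injective (algebraMap k GF').injective ?_
    show (Mg 1).map (algebraMap k GF') = (1 : Matrix (Fin e) (Fin e) k).map (algebraMap k GF')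
    rw [hMg, hΛ1, (show Φ 1 δ = δ by show fieldPerm (θ 1) δ = δ; rw [map_one, fieldPerm_one]), div_self hδ, one_smul, Matrix.map_one _ (map_zero _) (map_one _)]
  have hMC : ∀ c, Mg (iC c) = τ c := fun c => by
    refine Matrix.map_injective (algebraMap k GF').injective ?_
    show (Mg (iC c)).map (algebraMap k GF') = _
    rw [hMg, hΛC, hΦC, div_self hδ, one_smul]
    rfl
  refine ⟨{ toFun := Mg, map_one' := hM1, map_mul' := hMmul }, hMC, fun z t hz hΛz => ?_⟩
  refine Matrix.map_injective (algebraMap k GF').injective ?_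
  show (Mg z).map (algebraMap k GF') = (t • (1 : Matrix (Fin e) (Fin e) k)).map (algebraMap k GF')
  rw [hMg, hΛz, show Φ z δ = δ by show fieldPerm (θ z) δ = δ; rw [hz, fieldPerm_one], div_self hδ, one_smul,
    Matrix.map_smul' _ _ _ (map_mul _), Matrix.map_one _ (map_zero _) (map_one _)]

/-- Up to a killed operator, the scalar is that on the layer space. -/
theorem sum_ind_eq {k M K V : Type*} [Field k] [AddCommGroup M] [Module k M] [FiniteDimensional k M]
    [Group K] [Fintype K] [CommGroup V] [Fintype V] {p m : ℕ} [Fact p.Prime] [CharP k p] {α : V →* MulAut K}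
    {ρ : K →* Module.End k M} {π : V →* Module.End k M} (h : IsAction p α ρ π) (c : V → k)
    [Fintype (fix α)] (b : fix α → k) (E : Module.End k M) (T : k) (he : evC α ρ b + E = T • 1)
    (hE : Kills (point π c) m E) :
    (∑ g : fix α, b g • ind (point π c) m ⟨ρ g, h.rho_mem c g⟩) = T • 1 := by
  have e : (⟨_, h.evC_mem c b⟩ : Zc (point π c)) = ∑ g : fix α, b g • ⟨ρ g, h.rho_mem c g⟩ :=
    Subtype.ext (by simp [evC_apply])
  have e2 : ind (point π c) m ⟨_, h.evC_mem c b⟩ = ind (point π c) m (T • 1) := by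
    rw [← sub_eq_zero, ← map_sub, ind_eq_zero_iff]
    intro v hv
    have h1 := Submodule.neg_mem _ (hE v hv)
    convert h1 using 1
    show evC α ρ b v - (T • (1 : Module.End k M)) v = - E v
    rw [← he, LinearMap.add_apply]
    abel
  rw [e, map_sum, map_smul, map_one] at e2
  rw [← e2]
  exact Finset.sum_congr rfl fun g _ => (map_smul _ _ _).symm

/-- Scalars in the extended form are scalars in the form. -/
theorem kForm_scalar {k k' C H : Type*} [Field k] [Field k'] [Algebra k k'] [Group C] [Fintype C]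
    [AddCommGroup H] [Module k' H] {e : ℕ} (ρH : C →* Module.End k' H) (TE : (Fin e → k') ≃ₗ[k'] H)
    (u : Fin e → H) (hTE : ∀ v, TE v = ∑ i, v i • u i) (τ : C →* Matrix (Fin e) (Fin e) k)
    (hτu : ∀ c j, ρH c (u j) = ∑ i, algebraMap k k' (τ c i j) • u i) (y : C → k) (t : k)
    (h : ∑ g, algebraMap k k' (y g) • ρH g = algebraMap k k' t • 1) :
    ∑ g, y g • τ g = t • (1 : Matrix (Fin e) (Fin e) k) := by
  classical
  ext i j
  have h1 := LinearMap.congr_fun h (u j)
  simp only [LinearMap.sum_apply, LinearMap.smul_apply, hτu, Module.End.one_apply, Finset.smul_sum,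
    smul_smul] at h1
  rw [Finset.sum_comm] at h1
  simp only [← Finset.sum_smul] at h1
  have h2 : TE (fun i => ∑ g, algebraMap k k' (y g) * algebraMap k k' (τ g i j)) =
      TE (fun i => algebraMap k k' t * if i = j then 1 else 0) := by
    rw [hTE, hTE, h1, Finset.sum_eq_single j (fun l _ hne => by simp [hne]) (by simp)]
    simp
  have h3 := congrFun (TE.injective h2) i
  apply (algebraMap k k').injective
  rw [Matrix.sum_apply, map_sum]
  simp only [Matrix.smul_apply, smul_eq_mul, map_mul]
  rw [h3, Matrix.one_apply]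
  split_ifs <;> simp

variable {k : Type*} [Field k] [IsAlgClosed k] {p : ℕ} [hp : Fact p.Prime] [CharP k p]
  {Γ : Type*} [Group Γ] [Fintype Γ] {K : Subgroup Γ} [K.Normal] {ι : Type*} [Fintype ι] [DecidableEq ι]
  [Nonempty ι]

/-- The correspondent extends to the normaliser. -/
theorem exists_step (σ : Γ →* Module.End k (ι → k)) (hK : (Nat.card K : k) ≠ 0)
    (hfull : Submodule.span k (Set.range (σ.comp K.subtype)) = ⊤) (W : Subgroup Γ)
    (hab : ∀ x ∈ W, ∀ y ∈ W, x * y = y * x)
    (hWp : ∀ w ∈ W, σ (w ^ p) = 1 ∧ ∀ g ∈ K, w ^ p * g = g * w ^ p) :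
    ∃ (e : ℕ) (σ' : Subgroup.normalizer (W : Set Γ) →* Module.End k (Fin e → k)), 0 < e ∧
      Submodule.span k (σ' '' {x | (x : Γ) ∈ K ∧ ∀ w ∈ W, w * x * w⁻¹ = (x : Γ)}) = ⊤ ∧
      (∀ (z : Subgroup.normalizer (W : Set Γ)) (t : k), (∀ g : Γ, (z : Γ) * g = g * z) → σ z = t • 1 →
        σ' z = t • 1) ∧
      ∀ [Fintype K] [Fintype (Subgroup.normalizer (W : Set Γ))] [DecidablePred fun x : Subgroup.normalizer (W : Set Γ) =>
          (x : Γ) ∈ K ∧ ∀ w ∈ W, w * x * w⁻¹ = (x : Γ)] (y : Γ → k) (t : k),
        (∀ w ∈ W, ∀ g, y (w * g * w⁻¹) = y g) → ∑ g : K, y g • σ g = t • 1 →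
        ∑ x ∈ Finset.univ.filter (fun x : Subgroup.normalizer (W : Set Γ) =>
          (x : Γ) ∈ K ∧ ∀ w ∈ W, w * x * w⁻¹ = (x : Γ)), y x • σ' x = t • 1 := by
  classical
  letI : CommGroup W := { (inferInstance : Group W) with
    mul_comm := fun a b => Subtype.ext (hab _ a.2 _ b.2) }
  letI := Fintype.ofFinite K
  letI := Fintype.ofFinite W
  set N := Subgroup.normalizer (W : Set Γ) with hN
  let α : W →* MulAut K := MulAut.conjNormal.comp W.subtype
  have hα : ∀ (w : W) (g : K), (α w g : Γ) = w * g * (w : Γ)⁻¹ := fun w g => MulAut.conjNormal_apply _ _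
  let ρ : K →* Module.End k (ι → k) := σ.comp K.subtype
  let π : W →* Module.End k (ι → k) := σ.comp W.subtype
  have hact : IsAction p α ρ π := by
    refine ⟨fun w g => ?_, fun w => ?_, fun w => ?_, hfull, hK, inferInstance⟩
    · show σ w * σ g = σ (α w g : Γ) * σ w
      rw [← map_mul, ← map_mul, hα, inv_mul_cancel_right]
    · show σ w ^ p = 1
      rw [← map_pow]
      exact (hWp w w.2).1
    · refine MulEquiv.ext fun g => Subtype.ext ?_
      rw [← map_pow, hα, Subgroup.coe_pow, (hWp w w.2).2 g g.2, mul_inv_cancel_right]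
      rfl
  have hp2 := hp.out.two_le
  obtain ⟨m, hm⟩ : ∃ m, m + 1 = p := ⟨p - 1, by omega⟩
  let GF' := GF k W
  haveI : CharP GF' p := charP_of_injective_algebraMap (algebraMap k GF').injective p
  letI := Fintype.ofFinite (⊤ : Subgroup W)
  have hgood := generic_good hact hm (⊤ : Subgroup W)
  have hG := hact.generic (⊤ : Subgroup W)
  rw [genPoint_eq] at hgood
  set X := point (piG π (⊤ : Subgroup W)) fun w => xi k (w : W) with hX
  have hnz := hG.nonzero hm fun w : (⊤ : Subgroup W) => xi k (w : W)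
  have hX' : X = ∑ w : W, xi k w • (bc GF' (σ w) - 1) := by
    rw [hX, point]
    exact Fintype.sum_equiv Subgroup.topEquiv.toEquiv _ _ fun w => rfl
  -- the permutations
  have hN' : ∀ (g : N) (w : W), (g : Γ) * w * (g : Γ)⁻¹ ∈ W := fun g w =>
    (Subgroup.mem_normalizer_iff.1 g.2 w).1 w.2
  let θ : N →* Equiv.Perm W :=
    { toFun := fun g =>
        { toFun := fun w => ⟨g * w * (g : Γ)⁻¹, hN' g w⟩
          invFun := fun w => ⟨(g : Γ)⁻¹ * w * g, by simpa using hN' g⁻¹ w⟩
          left_inv := fun w => Subtype.ext (by simp [mul_assoc])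
          right_inv := fun w => Subtype.ext (by simp [mul_assoc]) }
      map_one' := Equiv.ext fun w => Subtype.ext (by simp)
      map_mul' := fun g h => Equiv.ext fun w => Subtype.ext (by simp [mul_assoc]) }
  have hθ : ∀ (g : N) (w : W), ((θ g w : W) : Γ) = g * w * (g : Γ)⁻¹ := fun _ _ => rfl
  let Φ : N → GF' ≃+* GF' := fun g => fieldPerm (θ g)
  have hΦmul : ∀ g h x, Φ (g * h) x = Φ g (Φ h x) := fun g h x => by
    show fieldPerm (θ (g * h)) x = _
    rw [map_mul, fieldPerm_mul]
  have hΦc : ∀ g c, Φ g (algebraMap k GF' c) = algebraMap k GF' c := fun g c => fieldPerm_const _ _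
  have hΦ1 : ∀ g : N, (∀ w ∈ W, (g : Γ) * w * (g : Γ)⁻¹ = w) → ∀ x, Φ g x = x := fun g hg x => by
    show fieldPerm (θ g) x = x
    rw [show θ g = 1 from Equiv.ext fun w => Subtype.ext (hg w w.2), fieldPerm_one]
  -- the semilinear action
  let S : N → (ι → GF') → (ι → GF') := fun g v => bc GF' (σ g) fun i => Φ g (v i)
  have Sadd : ∀ g v v', S g (v + v') = S g v + S g v' := fun g v v' => by
    simp only [S]; rw [← map_add]; congr 1; funext i; simp
  have Ssmul : ∀ g (c : GF') v, S g (c • v) = Φ g c • S g v := fun g c v => by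
    simp only [S]; rw [← map_smul]; congr 1; funext i; simp
  have Smul : ∀ g h v, S (g * h) v = S g (S h v) := fun g h v => by
    simp only [S]
    rw [bc_map_vec GF' _ (Φ g) (hΦc g), ← Module.End.mul_apply, ← map_mul, ← map_mul]
    simp only [hΦmul]
    rfl
  have SX : ∀ g v, S g (X v) = X (S g v) := by
    intro g v
    have Ssum : ∀ (f : W → ι → GF'), S g (∑ w, f w) = ∑ w, S g (f w) := fun f =>
      map_sum (AddMonoidHom.mk' (S g) (Sadd g)) f _
    rw [hX', LinearMap.sum_apply, Ssum, LinearMap.sum_apply]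
    refine Fintype.sum_equiv (θ g) _ _ fun w => ?_
    rw [LinearMap.smul_apply, Ssmul, LinearMap.smul_apply,
      show Φ g (xi k w) = xi k (θ g w) from fieldPerm_xi _ _]
    congr 1
    rw [LinearMap.sub_apply, LinearMap.sub_apply, Module.End.one_apply, Module.End.one_apply, sub_eq_add_neg,
      Sadd, show S g (-v) = -S g v from map_neg (AddMonoidHom.mk' (S g) (Sadd g)) v, sub_eq_add_neg]
    congr 1
    simp only [S]
    rw [bc_map_vec GF' _ (Φ g) (hΦc g), ← Module.End.mul_apply, ← map_mul, ← map_mul,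
      ← Module.End.mul_apply (bc GF' (σ _)), ← map_mul, ← map_mul, hθ]
    congr 3
    group
  have SXpow : ∀ g (j : ℕ) v, S g ((X ^ j) v) = (X ^ j) (S g v) := by
    intro g j
    induction j with
    | zero => intro v; simp
    | succ j ih => intro v; rw [pow_succ', Module.End.mul_apply, SX, ih, Module.End.mul_apply]
  have Sker : ∀ g {v}, v ∈ LinearMap.ker X → S g v ∈ LinearMap.ker X := fun g v hv => by
    rw [LinearMap.mem_ker] at hv ⊢
    rw [← SX, hv]
    exact map_zero (AddMonoidHom.mk' (S g) (Sadd g))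
  -- the layer space and its `k`-form
  set C := fix (α.comp (⊤ : Subgroup W).subtype) with hC
  letI := Fintype.ofFinite C
  let ρH : C →* Module.End GF' (H0 X m) :=
    (ind X m).toMonoidHom.comp (((rhoG (V := W) ρ).comp C.subtype).codRestrict (Zc X).toSubmonoid
      fun g => hG.rho_mem _ g)
  haveI hntH : Nontrivial (H0 X m) := Submodule.Quotient.nontrivial_iff.2 fun htop => hnz fun v hv =>
    (show (⟨v, hv⟩ : LinearMap.ker X) ∈ (LinearMap.range (X ^ m)).submoduleOf _ from
      htop ▸ Submodule.mem_top)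
  have hfullH : Submodule.span GF' (Set.range ρH) = ⊤ := by
    rw [eq_top_iff]
    rintro L -
    obtain ⟨b, hb, rfl⟩ := hgood.full L
    rw [show (⟨_, hb⟩ : Zc X) = ∑ g : C, b g • ⟨_, hG.rho_mem _ g⟩ from
      Subtype.ext (by
        simp only [evC_apply, AddSubmonoidClass.coe_finsetSum, SetLike.val_smul]
        exact Finset.sum_congr (Finset.ext fun _ => by simp) fun _ _ => rfl), map_sum]
    exact Submodule.sum_mem _ fun g _ => by
      rw [map_smul]; exact Submodule.smul_mem _ _ (Submodule.subset_span ⟨g, rfl⟩)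
  obtain ⟨e, τ, u, TE, he0, hτfull, hsingle, hTE, hτu⟩ := exists_kForm (k := k) ρH hfullH
  let τ' : C →* Matrix (Fin e) (Fin e) GF' := (algebraMap k GF').mapMatrix.toMonoidHom.comp τ
  choose f hf using fun j => Submodule.Quotient.mk_surjective _ (u j)
  -- the semilinear matrices
  let Λ : N → Matrix (Fin e) (Fin e) GF' := fun g =>
    Matrix.of fun i j => TE.symm (Submodule.Quotient.mk ⟨S g (f j), Sker g (f j).2⟩) i
  have hΛ : ∀ g j, (Submodule.Quotient.mk ⟨S g (f j), Sker g (f j).2⟩ : H0 X m) = ∑ i, Λ g i j • u i := by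
    intro g j
    conv_lhs => rw [← TE.apply_symm_apply (Submodule.Quotient.mk ⟨S g (f j), Sker g (f j).2⟩)]
    exact hTE _
  have huniq : ∀ {A B : Matrix (Fin e) (Fin e) GF'},
      (∀ j, ∑ i, A i j • u i = ∑ i, B i j • u i) → A = B := by
    intro A B h
    ext i j
    have h1 : TE (fun i => A i j) = TE (fun i => B i j) := by
      rw [hTE, hTE]; exact h j
    exact congrFun (TE.injective h1) i
  have hΛmul : ∀ g h, Λ (g * h) = Λ g * (Λ h).map (Φ g) := by
    intro g h
    refine huniq fun j => ?_
    rw [← hΛ]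
    have h1 := hΛ h j
    rw [show (∑ i, Λ h i j • u i) = Submodule.Quotient.mk (∑ i, Λ h i j • f i) by
      rw [← Submodule.mkQ_apply, map_sum]; simp only [map_smul, Submodule.mkQ_apply, hf],
      Submodule.Quotient.eq] at h1
    obtain ⟨w, hw⟩ := h1
    have h2 : S g (S h (f j)) - ∑ i, Φ g (Λ h i j) • S g (f i) = (X ^ m) (S g w) := by
      rw [← SXpow, hw]
      show _ = (AddMonoidHom.mk' (S g) (Sadd g)) _
      simp only [Submodule.coe_subtype, AddSubgroupClass.coe_sub, AddSubmonoidClass.coe_finsetSum,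
        Submodule.coe_smul, map_sub, map_sum, AddMonoidHom.mk'_apply, Ssmul]
    have h3 : (Submodule.Quotient.mk ⟨S (g * h) (f j), Sker _ (f j).2⟩ : H0 X m) =
        ∑ i, Φ g (Λ h i j) • Submodule.Quotient.mk ⟨S g (f i), Sker g (f i).2⟩ := by
      rw [← sub_eq_zero]
      simp only [← Submodule.mkQ_apply, ← map_smul, ← map_sum, ← map_sub]
      rw [Submodule.mkQ_apply, Submodule.Quotient.mk_eq_zero]
      refine ⟨S g w, h2.symm.trans ?_⟩
      simp [Smul]
    rw [h3]
    simp only [hΛ, Finset.smul_sum, smul_smul, Matrix.mul_apply, Finset.sum_smul, Matrix.map_apply]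
    rw [Finset.sum_comm]
    refine Finset.sum_congr rfl fun i _ => ?_
    simp only [← Finset.sum_smul]
    congr 1
    exact Finset.sum_congr rfl fun l _ => mul_comm _ _
  have hΛ1 : Λ 1 = 1 := huniq fun j => by
    rw [← hΛ, Finset.sum_eq_single j (fun i _ hne => by rw [Matrix.one_apply_ne hne, zero_smul]) (by simp),
      Matrix.one_apply_eq, one_smul, ← hf j]
    congr 1
    refine Subtype.ext ?_
    show S 1 (f j : ι → GF') = f j
    simp only [S, OneMemClass.coe_one, map_one, Module.End.one_apply]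
    funext i
    exact hΦ1 1 (by simp) _
  -- the fixed subgroup inside the normaliser
  have hCfix : ∀ c : C, ∀ w ∈ W, w * ((c : K) : Γ) * w⁻¹ = ((c : K) : Γ) := fun c w hw => by
    have := congrArg Subtype.val (mem_fix.1 c.2 ⟨⟨w, hw⟩, Subgroup.mem_top _⟩)
    exact (hα ⟨w, hw⟩ c).symm.trans this
  have hCfix' : ∀ c : C, ∀ w ∈ W, ((c : K) : Γ) * w * ((c : K) : Γ)⁻¹ = w := fun c w hw => by
    have := hCfix c w hw
    rw [mul_inv_eq_iff_eq_mul] at this ⊢
    exact this.symm
  let iC : C → N := fun c => ⟨((c : K) : Γ), Subgroup.mem_normalizer_iff.2 fun w => by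
    constructor
    · intro hw; rw [hCfix' c w hw]; exact hw
    · intro hw
      have h1 := hCfix' c _ hw
      rw [mul_left_inj, mul_right_inj] at h1
      rwa [h1] at hw⟩
  have hΦC : ∀ c x, Φ (iC c) x = x := fun c => hΦ1 _ (hCfix' c)
  have hΛC : ∀ c : C, Λ (iC c) = τ' c := fun c => huniq fun j => by
    rw [← hΛ, show (∑ i, τ' c i j • u i) = ρH c (u j) from (hτu c j).symm, ← hf j]
    show _ = ind X m _ _
    rw [ind_mk]
    congr 1
    refine Subtype.ext ?_
    show bc GF' (σ ((c : K) : Γ)) (fun i => Φ (iC c) ((f j : ι → GF') i)) = _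
    simp only [hΦC]
    rfl
  have hconj : ∀ (g : N) (c : C), ∃ c' : C, iC c' = g * iC c * g⁻¹ := by
    intro g c
    refine ⟨⟨⟨(g : Γ) * (c : K) * (g : Γ)⁻¹, ‹K.Normal›.conj_mem _ (c : K).2 _⟩, fun w => ?_⟩,
      Subtype.ext rfl⟩
    refine Subtype.ext ((hα _ _).trans ?_)
    show (w : W) * ((g : Γ) * ((c : K) : Γ) * (g : Γ)⁻¹) * ((w : W) : Γ)⁻¹ = _
    have h1 := hCfix c ((g : Γ)⁻¹ * ((w : W) : Γ) * g) (by simpa using hN' g⁻¹ (w : W))
    calc ((w : W) : Γ) * ((g : Γ) * ((c : K) : Γ) * (g : Γ)⁻¹) * ((w : W) : Γ)⁻¹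
        = (g : Γ) * (((g : Γ)⁻¹ * ((w : W) : Γ) * g) * ((c : K) : Γ) *
            ((g : Γ)⁻¹ * ((w : W) : Γ) * g)⁻¹) * (g : Γ)⁻¹ := by group
      _ = _ := by rw [h1]
  obtain ⟨Mg, hMC, hMz⟩ := exists_descended θ he0 τ hτfull hsingle iC
    (fun a b h => Subtype.ext (Subtype.ext (congrArg (fun x : N => (x : Γ)) h))) hΦC hconj Λ hΛ1 hΛmul hΛC
  let σ' : N →* Module.End k (Fin e → k) := Matrix.toLinAlgEquiv'.toMonoidHom.comp Mg
  have hset : ∀ x : N, ((x : Γ) ∈ K ∧ ∀ w ∈ W, w * x * w⁻¹ = (x : Γ)) ↔ ∃ c, iC c = x := fun x => by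
    constructor
    · rintro ⟨hx, hxw⟩
      exact ⟨⟨⟨x, hx⟩, fun w => Subtype.ext ((hα _ _).trans (hxw _ (w : W).2))⟩, rfl⟩
    · rintro ⟨c, rfl⟩
      exact ⟨(c : K).2, hCfix c⟩
  refine ⟨e, σ', he0, ?_, ?_, ?_⟩
  · rw [show {x : N | (x : Γ) ∈ K ∧ ∀ w ∈ W, w * x * w⁻¹ = (x : Γ)} = Set.range iC from
      Set.ext fun x => hset x, ← Set.range_comp,
      show (σ' ∘ iC) = Matrix.toLinAlgEquiv'.toLinearMap ∘ τ from funext fun c => by
        show Matrix.toLinAlgEquiv' (Mg (iC c)) = _
        rw [hMC]; rfl,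
      Set.range_comp, Submodule.span_image, hτfull, Submodule.map_top, LinearMap.range_eq_top]
    exact Matrix.toLinAlgEquiv'.surjective
  · intro z t hz hσz
    have hΦz : ∀ x, Φ z x = x := hΦ1 z fun w _ => by rw [hz w, mul_inv_cancel_right]
    have hΛz : Λ z = algebraMap k GF' t • 1 := huniq fun j => by
      rw [← hΛ, Finset.sum_eq_single j (fun i _ hne => by
        rw [Matrix.smul_apply, Matrix.one_apply_ne hne, smul_zero, zero_smul]) (by simp),
        Matrix.smul_apply, Matrix.one_apply_eq, smul_eq_mul, mul_one, ← hf j, ← Submodule.Quotient.mk_smul]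
      congr 1
      refine Subtype.ext ?_
      show bc GF' (σ z) (fun i => Φ z ((f j : ι → GF') i)) = _
      simp only [hΦz]
      rw [hσz, bc_scalar]
      rfl
    have h1 : Mg z = t • 1 := hMz z t (Equiv.ext fun w => Subtype.ext (by
      rw [hθ, hz, mul_inv_cancel_right]; rfl)) hΛz
    show Matrix.toLinAlgEquiv' (Mg z) = t • 1
    rw [h1, map_smul, map_one]
  · intro instK instN instP y t hy hsum
    let y' : K → GF' := fun g => algebraMap k GF' (y g)
    let s' : K → GF' := fun g => if g ∈ C then 0 else y' g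
    have hCinv : ∀ (v : (⊤ : Subgroup W)) g, (α.comp (⊤ : Subgroup W).subtype) v g ∈ C ↔ g ∈ C := by
      intro v g
      refine ⟨fun hg w => ?_, fun hg => by rwa [show (α.comp (⊤ : Subgroup W).subtype) v g = g from hg v]⟩
      have h1 : α w (α v g) = α v g := hg w
      rw [← MulAut.mul_apply, ← map_mul, mul_comm, map_mul, MulAut.mul_apply] at h1
      exact (α (v : W)).injective h1
    have h1 := hG.moved_mem hm (admissible_xi (k := k) (p := p) (⊤ : Subgroup W)) s' (fun v g => by
      simp only [s', hCinv v g]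
      congr 1
      show algebraMap k GF' _ = algebraMap k GF' _
      congr 1
      show y (α (v : W) g : Γ) = _
      rw [hα]
      exact hy _ (v : W).2 _) (fun g hg => if_pos hg)
    have h2 : evC (α.comp (⊤ : Subgroup W).subtype) (rhoG (V := W) ρ) (fun g : C => y' g) +
        ev (rhoG (V := W) ρ) s' = algebraMap k GF' t • 1 := by
      rw [evC_apply, ev_apply, ← Finset.sum_subtype (Finset.univ.filter (· ∈ C))
        (fun g => by simp) (fun g => y' g • rhoG (V := W) ρ g), Finset.sum_filter, ← Finset.sum_add_distrib,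
        ← bc_scalar, ← hsum, map_sum]
      refine Finset.sum_congr (Finset.ext fun _ => by simp) fun g _ => ?_
      simp only [s']
      split_ifs
      · rw [zero_smul, add_zero, bc_smul]; rfl
      · rw [zero_add, bc_smul]; rfl
    have h6 : ∑ g : C, y (g : K) • τ g = t • (1 : Matrix (Fin e) (Fin e) k) :=
      kForm_scalar ρH TE u hTE τ hτu (fun g : C => y (g : K)) t
        (sum_ind_eq hG _ (fun g : C => y' g) _ _ h2 (kills_trForm h1))
    have h8 := congrArg Matrix.toLinAlgEquiv' h6
    rw [map_sum, map_smul, map_one] at h8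
    rw [← h8]
    refine (Finset.sum_bij' (fun c _ => iC c) (fun x hx => ((hset x).1 (Finset.mem_filter.1 hx).2).choose)
      (fun c _ => Finset.mem_filter.2 ⟨Finset.mem_univ _, (hset _).2 ⟨c, rfl⟩⟩) (fun _ _ => Finset.mem_univ _)
      (fun c _ => ?_) (fun x hx => ((hset x).1 (Finset.mem_filter.1 hx).2).choose_spec) fun c _ => ?_).symm
    · refine Subtype.ext (Subtype.ext ?_)
      exact congrArg (fun x : N => (x : Γ))
        ((hset (iC c)).1 ((hset _).2 ⟨c, rfl⟩)).choose_spec
    · rw [map_smul]
      show _ = y ((c : K) : Γ) • Matrix.toLinAlgEquiv' (Mg (iC c))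
      rw [hMC]

end CfsgLib.Block.GenericPoint
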