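import Cfsg.Agent.Lib.Block.GenericPoint.Linear

/-!
# The layer space under a perturbation

If all small blocks of `X'` have size `1` or `m` and `Y` commutes with `X'`, a matrix specialising to
`X' + ε Y` has layer space at most as large as that of the operator induced by `Y`.
-/

set_option autoImplicit false

namespace CfsgLib.Block.GenericPoint

open Module LinearMap Matrix

theorem exists_minor {F : Type*} [Field F] {ι σ : Type*} [Fintype ι] [Fintype σ] [DecidableEq σ]
    (u : σ → ι → F) (hu : LinearIndependent F u) :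
    ∃ e : σ → ι, (Matrix.of fun a b => u b (e a)).det ≠ 0 := by
  classical
  let U : Matrix ι σ F := Matrix.of fun i b => u b i
  have hspan : Submodule.span F (Set.range U.row) = ⊤ := by
    apply Submodule.eq_top_of_finrank_eq
    rw [← Matrix.rank_eq_finrank_span_row, Matrix.rank_eq_finrank_span_cols,
      show U.col = u from rfl, finrank_span_eq_card hu, Module.finrank_fintype_fun_eq_card]
  obtain ⟨f, hfmem, -, hf⟩ := Submodule.exists_fun_fin_finrank_span_eq F (Set.range U.row)
  choose g hg using hfmem
  have hcard : Fintype.card σ = finrank F (Submodule.span F (Set.range U.row)) := by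
    rw [hspan, finrank_top, Module.finrank_fintype_fun_eq_card]
  let e0 : σ ≃ Fin (finrank F (Submodule.span F (Set.range U.row))) :=
    (Fintype.equivFin σ).trans (finCongr hcard)
  refine ⟨fun a => g (e0 a), IsUnit.ne_zero ?_⟩
  rw [← Matrix.isUnit_iff_isUnit_det, ← Matrix.linearIndependent_rows_iff_isUnit]
  have : (Matrix.of fun a b => u b (g (e0 a))).row = f ∘ e0 := by
    funext a
    rw [Function.comp_apply, ← hg (e0 a)]
    rfl
  rw [this]
  exact hf.comp e0 e0.injective

/-- A nonzero minor bounds the rank. -/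
theorem card_le_rank_of_det {F : Type*} [Field F] {ι σ : Type*} [Fintype ι] [Fintype σ] [DecidableEq σ]
    (A : Matrix ι ι F) (e e' : σ → ι) (h : (A.submatrix e e').det ≠ 0) : Fintype.card σ ≤ A.rank := by
  classical
  have h1 : (A.submatrix e e').rank = Fintype.card σ :=
    Matrix.rank_of_isUnit _ ((Matrix.isUnit_iff_isUnit_det _).2 (Ne.isUnit h))
  rw [← h1]
  exact Matrix.rank_submatrix_le _ _ _

/-- Rank is lower semicontinuous. -/
theorem card_le_rank {S R K k' : Type*} [CommRing S] [CommRing R] [IsDomain R] [Field K] [Field k']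
    [Algebra S K] (hK : Function.Injective (algebraMap S K)) (ψ : S →+* R) (φ : R →+* k')
    {ι σ : Type*} [Fintype ι] [Fintype σ] (Q : Matrix ι ι S) (w u : σ → ι → R) (c : σ → R)
    (hc : ∀ b, c b ≠ 0) (hw : ∀ b, (Q.map ψ) *ᵥ w b = c b • u b)
    (hu : LinearIndependent k' fun b => (φ ∘ u b : ι → k')) :
    Fintype.card σ ≤ (Q.map (algebraMap S K)).rank := by
  classical
  obtain ⟨e, he⟩ := exists_minor _ hu
  have h1 : (Matrix.of fun a b => u b (e a)).det ≠ 0 := by
    intro h0
    apply he
    rw [show (Matrix.of fun a b => (φ ∘ u b) (e a)) = φ.mapMatrix (Matrix.of fun a b => u b (e a)) from rfl,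
      ← RingHom.map_det, h0, map_zero]
  have h2 : ((Q.map ψ).submatrix e _root_.id * Matrix.of fun i b => w b i).det ≠ 0 := by
    have e2 : ((Q.map ψ).submatrix e _root_.id * Matrix.of fun i b => w b i) =
        (Matrix.of fun a b => u b (e a)) * Matrix.diagonal c := by
      ext a b
      rw [Matrix.mul_diagonal]
      exact (congrFun (hw b) (e a)).trans (mul_comm _ _)
    rw [e2, Matrix.det_mul, Matrix.det_diagonal]
    exact mul_ne_zero h1 (Finset.prod_ne_zero_iff.2 fun b _ => hc b)
  let F := FractionRing R
  have hrow : LinearIndependent F fun a : σ => fun i => algebraMap R F ((Q.map ψ) (e a) i) := by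
    rw [Fintype.linearIndependent_iff]
    intro g hg
    have hz : g ᵥ* (((Q.map ψ).submatrix e _root_.id * Matrix.of fun i b => w b i).map (algebraMap R F)) = 0 := by
      rw [Matrix.map_mul, ← Matrix.vecMul_vecMul]
      have : g ᵥ* ((Q.map ψ).submatrix e _root_.id).map (algebraMap R F) = 0 := by
        funext i
        simpa [Matrix.vecMul, dotProduct] using congrFun hg i
      rw [this, Matrix.zero_vecMul]
    have hdet : (((Q.map ψ).submatrix e _root_.id * Matrix.of fun i b => w b i).map (algebraMap R F)).det ≠ 0 := by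
      rw [← RingHom.mapMatrix_apply, ← RingHom.map_det]
      exact fun h0 => h2 (IsFractionRing.injective R F (h0.trans (map_zero _).symm))
    exact congrFun (Matrix.eq_zero_of_vecMul_eq_zero hdet hz)
  obtain ⟨e', he'⟩ := exists_minor _ hrow
  have h3 : ((Q.submatrix e e')).det ≠ 0 := by
    intro h0
    apply he'
    rw [show (Matrix.of fun a b => algebraMap R F ((Q.map ψ) (e b) (e' a))) =
      (((algebraMap R F).comp ψ).mapMatrix (Q.submatrix e e'))ᵀ from rfl, Matrix.det_transpose,
      ← RingHom.map_det, h0, map_zero]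
  refine card_le_rank_of_det _ e e' ?_
  rw [Matrix.submatrix_map, ← RingHom.mapMatrix_apply, ← RingHom.map_det]
  exact fun h0 => h3 (hK (h0.trans (map_zero _).symm))

theorem exists_pow_add {A : Type*} [CommSemiring A] (a b : A) :
    ∀ n : ℕ, ∃ r, (a + b) ^ n = a ^ n + b * ((n : A) * a ^ (n - 1)) + b * b * r := by
  intro n
  induction n with
  | zero => exact ⟨0, by simp⟩
  | succ n ih =>
    obtain ⟨r, hr⟩ := ih
    refine ⟨(n : A) * a ^ (n - 1) + r * (a + b), ?_⟩
    rw [pow_succ, hr, Nat.add_sub_cancel, pow_succ]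
    rcases n with _ | n
    · push_cast; ring
    · rw [Nat.succ_sub_one, pow_succ]; push_cast; ring

theorem finrank_H0 {k M : Type*} [Field k] [AddCommGroup M] [Module k M] [FiniteDimensional k M]
    {X : Module.End k M} {m : ℕ} (hX : X ^ (m + 1) = 0) :
    finrank k (H0 X m) + finrank k (LinearMap.range X) + finrank k (LinearMap.range (X ^ m)) =
      finrank k M := by
  have h1 := Submodule.finrank_quotient_add_finrank ((LinearMap.range (X ^ m)).submoduleOf (LinearMap.ker X))
  rw [(Submodule.submoduleOfEquivOfLe (range_top_le_ker hX)).finrank_eq] at h1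
  have h2 := LinearMap.finrank_range_add_finrank_ker X
  show finrank k (LinearMap.ker X ⧸ _) + _ + _ = _
  omega

section

variable {k' : Type*} [Field k'] {ι : Type*} [Fintype ι] [DecidableEq ι] {m : ℕ}

/-- The rank bound from a family independent modulo the image at `ε = 0`. -/
theorem rank_add_le {S K : Type*} [CommRing S] [Field K] [Algebra S K]
    (hK : Function.Injective (algebraMap S K)) (ψ : S →+* Polynomial k') (Q : Matrix ι ι S)
    (A : Matrix ι ι k') (hA : (Q.map ψ).map (Polynomial.evalRingHom 0) = A)
    {σ : Type*} [Fintype σ] (w u : σ → ι → Polynomial k') (e : ℕ) (c : k') (hc : c ≠ 0)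
    (hw : ∀ b, (Q.map ψ) *ᵥ w b = (Polynomial.C c * Polynomial.X ^ e) • u b)
    (hind : ∀ g : σ → k', (∑ b, g b • fun i => (u b i).eval 0) ∈ LinearMap.range (Matrix.mulVecLin A) →
      g = 0) :
    finrank k' (LinearMap.range (Matrix.mulVecLin A)) + Fintype.card σ ≤
      (Q.map (algebraMap S K)).rank := by
  classical
  set B := Module.finBasis k' (LinearMap.range (Matrix.mulVecLin A))
  choose pre hpre using fun a => LinearMap.mem_range.1 (B a).2
  let r := finrank k' (LinearMap.range (Matrix.mulVecLin A))
  let u' : Fin r ⊕ σ → ι → Polynomial k' :=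
    Sum.elim (fun a => (Q.map ψ) *ᵥ fun i => Polynomial.C (pre a i)) u
  let w' : Fin r ⊕ σ → ι → Polynomial k' := Sum.elim (fun a i => Polynomial.C (pre a i)) w
  let c' : Fin r ⊕ σ → Polynomial k' := Sum.elim 1 fun _ => Polynomial.C c * Polynomial.X ^ e
  have hev : ∀ (v : ι → k') (i : ι),
      (((Q.map ψ) *ᵥ fun i => Polynomial.C (v i)) i).eval 0 = (A *ᵥ v) i := by
    intro v i
    rw [← Polynomial.coe_evalRingHom, RingHom.map_mulVec, hA]
    congr 1
    funext j
    simp
  have := card_le_rank hK ψ (Polynomial.evalRingHom 0) Q w' u' c' ?_ ?_ ?_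
  · simpa using this
  · rintro (a | b)
    · exact one_ne_zero
    · exact mul_ne_zero (by simpa using hc) (pow_ne_zero _ Polynomial.X_ne_zero)
  · rintro (a | b)
    · exact (one_smul _ _).symm
    · exact hw b
  · rw [Fintype.linearIndependent_iff]
    intro g hg
    rw [Fintype.sum_sum_type] at hg
    have hl : ∀ a, (Polynomial.evalRingHom (0 : k') ∘ u' (Sum.inl a) : ι → k') = (B a : ι → k') := fun a => by
      funext i
      rw [Function.comp_apply, Polynomial.coe_evalRingHom]
      refine (hev (pre a) i).trans ?_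
      simpa using congrFun (hpre a) i
    simp only [hl] at hg
    have hg2 : (fun b => g (Sum.inr b)) = 0 := by
      refine hind _ ?_
      have e1 := eq_neg_of_add_eq_zero_right hg
      refine e1.symm ▸ Submodule.neg_mem _ (Submodule.sum_mem _ fun a _ => Submodule.smul_mem _ _ (B a).2)
    have hg1 : ∑ a, g (Sum.inl a) • B a = 0 := Subtype.ext (by
      rw [AddSubmonoidClass.coe_finsetSum]
      simp only [show ∀ b, g (Sum.inr b) = 0 from congrFun hg2, zero_smul, Finset.sum_const_zero,
        add_zero] at hg
      simpa using hg)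
    rintro (a | b)
    · exact Fintype.linearIndependent_iff.1 B.linearIndependent _ hg1 a
    · exact congrFun hg2 b

theorem toLin'_pow (A : Matrix ι ι k') (j : ℕ) : Matrix.toLin' (A ^ j) = Matrix.toLin' A ^ j :=
  map_pow Matrix.toLinAlgEquiv' A j

theorem map_pow_matrix {R S : Type*} [CommRing R] [CommRing S] (f : R →+* S) (A : Matrix ι ι R) (j : ℕ) :
    (A ^ j).map f = A.map f ^ j := map_pow f.mapMatrix A j

/-- The main bound. -/
theorem perturb_le {S K : Type*} [CommRing S] [Field K] [Algebra S K]
    (hK : Function.Injective (algebraMap S K)) (ψ : S →+* Polynomial k') (Q : Matrix ι ι S)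
    (A B : Matrix ι ι k') (hQ : Q.map ψ = A.map Polynomial.C + Polynomial.X (R := k') • B.map Polynomial.C)
    (hA : Matrix.toLin' A ^ (m + 1) = 0) (hm0 : (m : k') ≠ 0)
    (hY : Matrix.toLin' B ∈ Zc (Matrix.toLin' A)) {i' : ℕ} (hi' : i' = 1 ∨ i' = m)
    (hL : Layer (Matrix.toLin' A) m i')
    (hY0 : ind (Matrix.toLin' A) m ⟨_, hY⟩ ^ (m + 1) = 0) :
    finrank k' (ι → k') ≤
      (Q.map (algebraMap S K)).rank + ((Q ^ m).map (algebraMap S K)).rank +
        finrank k' (H0 (ind (Matrix.toLin' A) m ⟨_, hY⟩) m) := by
  classical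
  set X' := Matrix.toLin' A with hX'
  set Y0 := ind X' m ⟨_, hY⟩ with hY0'
  have hm : 1 ≤ m := hL.pos.trans hL.le
  have hn := finrank_H0 hA
  have hd := finrank_H0 hY0
  have hev0 : ∀ j, ((Q ^ j).map ψ).map (Polynomial.evalRingHom 0) = A ^ j := by
    intro j
    have e0 : (Q.map ψ).map (Polynomial.evalRingHom 0) = A := by
      rw [hQ]
      ext i l
      simp
    rw [map_pow_matrix, map_pow_matrix, e0]
  have hrk : ∀ j, finrank k' (LinearMap.range (Matrix.mulVecLin (A ^ j))) =
      finrank k' (LinearMap.range (X' ^ j)) := fun j => by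
    rw [hX', ← toLin'_pow, Matrix.toLin'_apply']
  set P := Q.map ψ with hP
  set a := A.map (Polynomial.C : k' →+* Polynomial k') with ha
  set b := Polynomial.X (R := k') • B.map (Polynomial.C : k' →+* Polynomial k') with hb
  have hAB : Commute A B := Matrix.toLinAlgEquiv'.injective (by
    rw [map_mul, map_mul]
    exact (mem_Zc.1 hY).eq)
  have hab : Commute a b := by
    refine Commute.smul_right ?_ _
    exact hAB.map (Polynomial.C : k' →+* Polynomial k').mapMatrix
  have hCv : ∀ (D : Matrix ι ι k') (v : ι → k'), (D.map Polynomial.C) *ᵥ (fun i => Polynomial.C (v i)) =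
      fun i => Polynomial.C ((D *ᵥ v) i) := fun D v => by
    funext i
    exact ((Polynomial.C : k' →+* Polynomial k').map_mulVec D v i).symm
  have happ : ∀ (D : Matrix ι ι k') (j : ℕ) (v : ι → k'), (D ^ j) *ᵥ v = (Matrix.toLin' D ^ j) v := by
    intro D j v
    rw [← toLin'_pow, Matrix.toLin'_apply]
  -- preimages of a basis of the range of a power of the induced operator
  have hfam : ∀ t : ℕ, ∃ f : Fin (finrank k' (LinearMap.range (Y0 ^ t))) → LinearMap.ker X',
      ∀ g : Fin (finrank k' (LinearMap.range (Y0 ^ t))) → k',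
        (∑ l, g l • (Matrix.toLin' B ^ t) (f l : ι → k')) ∈ LinearMap.range (X' ^ m) → g = 0 := by
    intro t
    set Bt := Module.finBasis k' (LinearMap.range (Y0 ^ t))
    choose x hx using fun l => LinearMap.mem_range.1 (Bt l).2
    choose f hf using fun l => Submodule.Quotient.mk_surjective _ (x l)
    refine ⟨f, fun g hg => ?_⟩
    have h1 : ∑ l, g l • Bt l = 0 := Subtype.ext (by
      rw [AddSubmonoidClass.coe_finsetSum, ZeroMemClass.coe_zero]
      have key : ∑ l, g l • (Bt l : H0 X' m) =
          ind X' m (⟨_, hY⟩ ^ t) (Submodule.Quotient.mk (∑ l, g l • f l)) := by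
        rw [map_pow, ← Submodule.mkQ_apply, map_sum, map_sum]
        simp only [map_smul, Submodule.mkQ_apply, hf, hx, Y0]
      simp only [Submodule.coe_smul]
      rw [key, ind_mk, Submodule.Quotient.mk_eq_zero]
      show _ ∈ LinearMap.range (X' ^ m)
      simpa using hg)
    exact funext (Fintype.linearIndependent_iff.1 Bt.linearIndependent g h1)
  rcases hi' with rfl | rfl
  · -- blocks of size one
    have hbound : ∀ j, 1 ≤ j → finrank k' (LinearMap.range (X' ^ j)) +
        finrank k' (LinearMap.range (Y0 ^ j)) ≤ ((Q ^ j).map (algebraMap S K)).rank := by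
      intro j hj
      obtain ⟨f, hf⟩ := hfam j
      rw [← hrk]
      have := rank_add_le hK ψ (Q ^ j) (A ^ j) (hev0 j)
        (fun l i => Polynomial.C ((f l : ι → k') i))
        (fun l i => Polynomial.C (((B ^ j) *ᵥ (f l : ι → k')) i)) j (1 : k') one_ne_zero ?_ ?_
      · simpa using this
      · intro l
        have key : ∀ j, (P ^ j) *ᵥ (fun i => Polynomial.C ((f l : ι → k') i)) =
            (Polynomial.X (R := k') ^ j) • fun i => Polynomial.C (((B ^ j) *ᵥ (f l : ι → k')) i) := by
          intro j
          induction j with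
          | zero => simp
          | succ j ih =>
            rw [pow_succ', ← Matrix.mulVec_mulVec, ih, Matrix.mulVec_smul, hQ, Matrix.add_mulVec,
              Matrix.smul_mulVec, hCv, hCv,
              show A *ᵥ ((B ^ j) *ᵥ (f l : ι → k')) = 0 by
                rw [Matrix.mulVec_mulVec, (hAB.pow_right j).eq, ← Matrix.mulVec_mulVec,
                  ← Matrix.toLin'_apply A, ← hX', LinearMap.mem_ker.1 (f l).2, Matrix.mulVec_zero],
              Matrix.mulVec_mulVec _ B, ← pow_succ', pow_succ (Polynomial.X (R := k'))]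
            funext i
            simp [mul_assoc]
        rw [map_pow_matrix, ← hP, key, map_one, one_mul]
      · intro g hg
        refine hf g (hL.inf_le ⟨?_, ?_⟩)
        · refine Submodule.sum_mem _ fun l _ => Submodule.smul_mem _ _ ?_
          exact map_ker_le ((mem_Zc.1 hY).pow_right j) (f l).2
        · rw [← Matrix.toLin'_apply', toLin'_pow, ← hX'] at hg
          refine range_pow_le hj ?_
          simpa [happ] using hg
    have b1 := hbound 1 le_rfl
    have b2 := hbound m hm
    rw [pow_one, pow_one, pow_one] at b1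
    omega
  · -- blocks of maximal size
    have hker := hL.ker_le
    have hlift : ∀ v : LinearMap.ker X', ∃ g : ι → k', (X' ^ (i' - 1)) g = v ∧ (X' ^ i') g = 0 := by
      intro v
      obtain ⟨g, hg⟩ := hker v.2
      refine ⟨g, hg, ?_⟩
      rw [show i' = (i' - 1) + 1 by omega, pow_succ', Module.End.mul_apply, hg, LinearMap.mem_ker.1 v.2]
    have bm : finrank k' (LinearMap.range (X' ^ i')) + finrank k' (LinearMap.range (Y0 ^ 1)) ≤
        ((Q ^ i').map (algebraMap S K)).rank := by
      obtain ⟨f, hf⟩ := hfam 1
      choose g hg1 hg2 using fun l => hlift (f l)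
      obtain ⟨r, hr⟩ : ∃ r : Matrix ι ι (Polynomial k'),
          P ^ i' = a ^ i' + b * ((i' : Matrix ι ι (Polynomial k')) * a ^ (i' - 1)) + b * b * r := by
        let S' := Algebra.adjoin (Polynomial k') ({a, b} : Set (Matrix ι ι (Polynomial k')))
        letI : CommRing S' := Algebra.adjoinCommRingOfComm _ (by
          rintro x (rfl | rfl) y (rfl | rfl)
          exacts [rfl, hab.eq, hab.symm.eq, rfl])
        obtain ⟨r, hr⟩ := exists_pow_add (⟨a, Algebra.subset_adjoin (Or.inl rfl)⟩ : S')
          ⟨b, Algebra.subset_adjoin (Or.inr rfl)⟩ i'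
        refine ⟨r, ?_⟩
        have := congrArg (fun x : S' => (x : Matrix ι ι (Polynomial k'))) hr
        simpa [hQ, ← ha, ← hb] using this
      rw [← hrk]
      have := rank_add_le hK ψ (Q ^ i') (A ^ i') (hev0 i')
        (fun l i => Polynomial.C (g l i))
        (fun l => (fun i => Polynomial.C ((i' : k') * ((B *ᵥ (f l : ι → k')) i))) +
          Polynomial.X (R := k') • ((B.map Polynomial.C * B.map Polynomial.C * r) *ᵥ
            fun i => Polynomial.C (g l i))) 1 (1 : k') one_ne_zero ?_ ?_
      · simpa using this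
      · intro l
        rw [map_pow_matrix, ← hP, hr, Matrix.add_mulVec, Matrix.add_mulVec, map_one, one_mul, pow_one,
          show a ^ i' *ᵥ (fun i => Polynomial.C (g l i)) = 0 by
            rw [ha, ← map_pow_matrix, hCv, happ, ← hX', hg2]; funext i; simp, zero_add, smul_add]
        congr 1
        · rw [← Matrix.mulVec_mulVec, ← Matrix.mulVec_mulVec, ha, ← map_pow_matrix, hCv, happ, ← hX', hg1,
            ← Nat.smul_one_eq_cast i', Matrix.smul_mulVec i' (1 : Matrix ι ι (Polynomial k')), Matrix.one_mulVec, hb,
            Matrix.smul_mulVec, Matrix.mulVec_smul, hCv]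
          funext i
          simp [nsmul_eq_mul, mul_assoc, mul_left_comm]
        · rw [hb, Matrix.smul_mul, Matrix.mul_smul, smul_smul, Matrix.smul_mul, Matrix.smul_mulVec,
            smul_smul]
      · intro c hc
        have e : (fun l => fun i => (((fun i => Polynomial.C ((i' : k') * ((B *ᵥ (f l : ι → k')) i))) +
            Polynomial.X (R := k') • ((B.map Polynomial.C * B.map Polynomial.C * r) *ᵥ
              fun i => Polynomial.C (g l i))) i).eval 0) =
            fun l => (i' : k') • (Matrix.toLin' B ^ 1) (f l : ι → k') := by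
          funext l i
          simp [pow_one, Matrix.toLin'_apply]
        rw [Finset.sum_congr rfl fun l _ => congrArg (c l • ·) (congrFun e l)] at hc
        have h0 := hf (fun l => c l * (i' : k')) (by
          rw [← Matrix.toLin'_apply', toLin'_pow, ← hX'] at hc
          simpa [mul_smul] using hc)
        funext l
        exact (mul_eq_zero.1 (congrFun h0 l)).resolve_right hm0
    have b1 : finrank k' (LinearMap.range (X' ^ 1)) + finrank k' (LinearMap.range (Y0 ^ i')) ≤
        ((Q ^ 1).map (algebraMap S K)).rank := by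
      obtain ⟨f, hf⟩ := hfam i'
      choose g hg1 hg2 using fun l => hlift (f l)
      rw [← hrk]
      set s := ∑ l ∈ Finset.range i', a ^ l * (-b) ^ (i' - 1 - l)
      have hgeom : (a - -b) * s = a ^ i' - (-b) ^ i' := hab.neg_right.mul_geom_sum₂ i'
      have := rank_add_le hK ψ (Q ^ 1) (A ^ 1) (hev0 1)
        (fun l => s *ᵥ fun i => Polynomial.C (g l i))
        (fun l i => Polynomial.C (((B ^ i') *ᵥ g l) i)) i' (-(-1 : k') ^ i') (by simp) ?_ ?_
      · simpa using this
      · intro l
        rw [pow_one, ← hP, hQ, Matrix.mulVec_mulVec, ← sub_neg_eq_add a, hgeom, Matrix.sub_mulVec,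
          show a ^ i' *ᵥ (fun i => Polynomial.C (g l i)) = 0 by
            rw [ha, ← map_pow_matrix, hCv, happ, ← hX', hg2]; funext i; simp, zero_sub, hb, neg_pow,
          smul_pow, ← map_pow_matrix, mul_smul_comm, Matrix.smul_mulVec, ← Matrix.mulVec_mulVec, hCv]
        rw [show ((-1 : Matrix ι ι (Polynomial k')) ^ i') = ((-1 : Polynomial k') ^ i') • 1 by
          rw [← Algebra.algebraMap_eq_smul_one, map_pow, map_neg, map_one], Matrix.smul_mulVec,
          Matrix.one_mulVec]
        funext i
        simp [mul_assoc, mul_left_comm]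
      · intro c hc
        simp only [Polynomial.eval_C] at hc
        rw [← Matrix.toLin'_apply', toLin'_pow, ← hX'] at hc
        refine hf c ?_
        obtain ⟨u, hu⟩ := hc
        refine ⟨u, ?_⟩
        have h1 := congrArg (X' ^ (i' - 1)) hu
        rw [← Module.End.mul_apply, ← pow_add, show i' - 1 + 1 = i' by omega, map_sum] at h1
        rw [h1]
        refine Finset.sum_congr rfl fun l _ => ?_
        rw [← hg1 l, map_smul]
        congr 1
        rw [apply_pow_comm ((mem_Zc.1 hY).pow_right i'), ← happ B]
    rw [pow_one, pow_one] at b1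
    rw [pow_one] at bm
    omega

end

end CfsgLib.Block.GenericPoint
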