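import Cfsg.Agent.Lib.Block.GenericPoint.Setup
import Cfsg.Agent.Lib.Block.GenericPoint.Perturb

/-!
# The generic point

At the point `∑ ξ v (v - 1)` with independent variables `ξ v` the layer space of a full representation is
a full representation of the fixed subgroup: induction on the acting subgroup, specialising the new
variable to a small parameter.
-/

set_option autoImplicit false

namespace CfsgLib.Block.GenericPoint

open Module LinearMap

/-- The field of the generic point. -/
abbrev GF (k V : Type*) [Field k] : Type _ := FractionRing (MvPolynomial V k)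

variable {k : Type*} [Field k]

/-- The coordinate at `v`. -/
noncomputable def xi (k : Type*) [Field k] {V : Type*} (v : V) : GF k V :=
  algebraMap (MvPolynomial V k) (GF k V) (MvPolynomial.X v)

section BaseChange

variable (k' : Type*) [Field k'] [Algebra k k'] {ι : Type*} [Fintype ι] [DecidableEq ι]

/-- Extension of scalars on operators of `ι → k`. -/
noncomputable def bc : Module.End k (ι → k) →+* Module.End k' (ι → k') :=
  (Matrix.toLinAlgEquiv' : Matrix ι ι k' ≃ₐ[k'] _).toRingEquiv.toRingHom.comp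
    ((algebraMap k k').mapMatrix.comp
      (Matrix.toLinAlgEquiv' : Matrix ι ι k ≃ₐ[k] _).symm.toRingEquiv.toRingHom)

theorem bc_smul (c : k) (a : Module.End k (ι → k)) : bc k' (c • a) = algebraMap k k' c • bc k' a := by
  show Matrix.toLinAlgEquiv' ((Matrix.toLinAlgEquiv'.symm (c • a)).map (algebraMap k k')) =
    algebraMap k k' c • Matrix.toLinAlgEquiv' ((Matrix.toLinAlgEquiv'.symm a).map (algebraMap k k'))
  rw [map_smul, Matrix.map_smul' _ _ _ (map_mul _), map_smul]

theorem bc_full {K : Type*} [Group K] {ρ : K →* Module.End k (ι → k)}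
    (h : Submodule.span k (Set.range ρ) = ⊤) :
    Submodule.span k' (Set.range ((bc k').toMonoidHom.comp ρ)) = ⊤ := by
  classical
  rw [eq_top_iff]
  intro L _
  have hmem : ∀ a : Module.End k (ι → k), bc k' a ∈ Submodule.span k' (Set.range ((bc k').toMonoidHom.comp ρ)) := by
    intro a
    have ha : a ∈ Submodule.span k (Set.range ρ) := h ▸ Submodule.mem_top
    induction ha using Submodule.span_induction with
    | mem x hx => obtain ⟨g, rfl⟩ := hx; exact Submodule.subset_span ⟨g, rfl⟩
    | zero => rw [map_zero]; exact Submodule.zero_mem _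
    | add x y _ _ hx hy => rw [map_add]; exact Submodule.add_mem _ hx hy
    | smul c x _ hx => rw [bc_smul]; exact Submodule.smul_mem _ _ hx
  have e : L = ∑ i, ∑ j, (Matrix.toLinAlgEquiv'.symm L) i j •
      bc k' (Matrix.toLinAlgEquiv' (Matrix.single i j (1 : k))) := by
    apply (Matrix.toLinAlgEquiv' : Matrix ι ι k' ≃ₐ[k'] _).symm.injective
    simp only [map_sum, map_smul, bc, RingHom.comp_apply, AlgEquiv.toRingEquiv_toRingHom,
      RingHom.coe_coe, AlgEquiv.symm_apply_apply, RingHom.mapMatrix_apply]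
    conv_lhs => rw [Matrix.matrix_eq_sum_single (Matrix.toLinAlgEquiv'.symm L)]
    simp [Matrix.map_single, Matrix.smul_single]
  rw [e]
  exact Submodule.sum_mem _ fun i _ => Submodule.sum_mem _ fun j _ => Submodule.smul_mem _ _ (hmem _)

end BaseChange

variable {p m : ℕ} [hp : Fact p.Prime] [CharP k p] {K : Type*} [Group K] [Fintype K] {V : Type*}
  [CommGroup V] [Fintype V] {ι : Type*} [Fintype ι] [DecidableEq ι]
  {α : V →* MulAut K} {ρ : K →* Module.End k (ι → k)} {π : V →* Module.End k (ι → k)}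

/-- The representation over the generic field. -/
noncomputable abbrev rhoG (ρ : K →* Module.End k (ι → k)) : K →* Module.End (GF k V) (ι → GF k V) :=
  (bc (GF k V)).toMonoidHom.comp ρ

/-- The action over the generic field. -/
noncomputable abbrev piG (π : V →* Module.End k (ι → k)) (W : Subgroup V) :
    W →* Module.End (GF k V) (ι → GF k V) :=
  ((bc (GF k V)).toMonoidHom.comp π).comp W.subtype

/-- The generic point of a subgroup. -/
noncomputable def genPoint [Fintype V] (π : V →* Module.End k (ι → k)) (W : Subgroup V) :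
    Module.End (GF k V) (ι → GF k V) :=
  letI := Fintype.ofFinite W
  point (piG π W) fun w => xi k (w : V)

theorem genPoint_eq (W : Subgroup V) [Fintype W] :
    genPoint π W = point (piG π W) fun w => xi k (w : V) := by
  simp only [genPoint, point]
  exact Finset.sum_congr (Finset.ext fun _ => by simp) fun _ _ => rfl

theorem IsAction.generic (h : IsAction p α ρ π) (W : Subgroup V) :
    IsAction p (α.comp W.subtype) (rhoG (V := V) ρ) (piG π W) where
  compat v g := by
    show bc _ (π v) * bc _ (ρ g) = bc _ (ρ (α v g)) * bc _ (π v)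
    rw [← map_mul, ← map_mul, h.compat]
  pi_pow v := by
    show bc _ (π v) ^ p = 1
    rw [← map_pow, h.pi_pow, map_one]
  alpha_pow v := h.alpha_pow v
  full := bc_full _ h.full
  card_ne := by
    rw [← map_natCast (algebraMap k (GF k V)), ne_eq, map_eq_zero]
    exact h.card_ne
  nontriv := by
    haveI := h.nontriv
    haveI : Nonempty ι := by
      by_contra he
      rw [not_nonempty_iff] at he
      exact not_subsingleton (ι → k) inferInstance
    infer_instance

theorem admissible_xi (W : Subgroup V) [Fintype W] :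
    Admissible p (fun w : W => xi k (w : V)) := by
  classical
  rintro a - ⟨w0, hw0⟩ h0
  apply hw0
  have e : slope a (fun w : W => xi k (w : V)) = algebraMap (MvPolynomial V k) (GF k V)
      (∑ w : W, MvPolynomial.X (w : V) * MvPolynomial.C ((a w).val : k)) := by
    simp only [slope, xi, map_sum, map_mul, map_natCast]
  rw [e, ← map_zero (algebraMap (MvPolynomial V k) (GF k V))] at h0
  have h1 := congrArg (MvPolynomial.coeff (Finsupp.single (w0 : V) 1))
    (IsFractionRing.injective (MvPolynomial V k) (GF k V) h0)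
  rw [MvPolynomial.coeff_sum, Finset.sum_eq_single w0 (fun w _ hne => by
    rw [mul_comm, MvPolynomial.coeff_C_mul, MvPolynomial.coeff_X', if_neg, mul_zero]
    exact fun h => hne (Subtype.ext (Finsupp.single_left_injective one_ne_zero h)))
    (by simp), mul_comm, MvPolynomial.coeff_C_mul, MvPolynomial.coeff_X', if_pos rfl, mul_one, MvPolynomial.coeff_zero,
    CharP.cast_eq_zero_iff k p] at h1
  rw [← ZMod.natCast_zmod_val (a w0), (CharP.cast_eq_zero_iff (ZMod p) p _).2 h1]

theorem not_dvd_m (hm : m + 1 = p) (hpos : 1 ≤ m) : (m : k) ≠ 0 := by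
  intro h0'
  rw [CharP.cast_eq_zero_iff k p] at h0'
  have := Nat.le_of_dvd (by omega) h0'
  omega

/-- Specialising the variable at `h₀` to a small parameter. -/
theorem finrank_H0_le (h : IsAction p α ρ π) (hm : m + 1 = p) {W W' : Subgroup V} [Fintype W] [Fintype W']
    (hle : W' ≤ W) (h0 : W) (hh0' : (h0 : V) ∉ W') (X' : Module.End (GF k V) (ι → GF k V))
    (hX' : X' = point (piG π W') fun w => xi k (w : V)) {i' : ℕ} (hi' : i' = 1 ∨ i' = m)
    (hL' : Layer X' m i') (hY : bc (GF k V) (π (h0 : V)) - 1 ∈ Zc X')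
    (Y0 : Module.End (GF k V) (H0 X' m)) (hY0 : ind X' m ⟨_, hY⟩ = Y0) (hnil : Y0 ^ (m + 1) = 0) :
    finrank (GF k V) (H0 (point (piG π W) fun w => xi k (w : V)) m) ≤ finrank (GF k V) (H0 Y0 m) := by
  classical
  haveI : CharP (GF k V) p := charP_of_injective_algebraMap (algebraMap k (GF k V)).injective p
  let S := MvPolynomial V k
  let Qm : Matrix ι ι S := ∑ w : W, (MvPolynomial.X (w : V) : S) •
    ((Matrix.toLinAlgEquiv'.symm (π (w : V))).map MvPolynomial.C - 1)
  have hbcm : ∀ v : V, (Matrix.toLinAlgEquiv'.symm (π v)).map (algebraMap k (GF k V)) =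
      Matrix.toLinAlgEquiv'.symm (bc (GF k V) (π v)) := fun v =>
    (Matrix.toLinAlgEquiv'.symm_apply_apply _).symm
  have hQmap : ∀ {R : Type _} [CommRing R] (f : S →+* R), Qm.map f = ∑ w : W, f (MvPolynomial.X (w : V)) •
      ((Matrix.toLinAlgEquiv'.symm (π (w : V))).map (f.comp MvPolynomial.C) - 1) := by
    intro R _ f
    rw [← RingHom.mapMatrix_apply]
    simp only [Qm, map_sum]
    refine Finset.sum_congr rfl fun w _ => ?_
    rw [RingHom.mapMatrix_apply, Matrix.map_smul' _ _ _ (map_mul _), ← RingHom.mapMatrix_apply, map_sub,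
      map_one, RingHom.mapMatrix_apply, Matrix.map_map]
    rfl
  have hQalg : Matrix.toLinAlgEquiv' (Qm.map (algebraMap S (GF k V))) =
      point (piG π W) fun w => xi k (w : V) := by
    rw [hQmap, point, map_sum]
    refine Finset.sum_congr rfl fun w _ => ?_
    rw [show (algebraMap S (GF k V)).comp MvPolynomial.C = algebraMap k (GF k V) from
      (IsScalarTower.algebraMap_eq k S (GF k V)).symm, hbcm, map_smul, map_sub, map_one,
      AlgEquiv.apply_symm_apply]
    rfl
  set A := Matrix.toLinAlgEquiv'.symm X' with hA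
  set B := Matrix.toLinAlgEquiv'.symm (bc (GF k V) (π (h0 : V)) - 1) with hB
  have hAX : Matrix.toLin' A = X' := Matrix.toLinAlgEquiv'.apply_symm_apply X'
  have hBX : Matrix.toLin' B = bc (GF k V) (π (h0 : V)) - 1 := Matrix.toLinAlgEquiv'.apply_symm_apply _
  let ev' : V → Polynomial (GF k V) := fun v =>
    if v ∈ W' then Polynomial.C (xi k v) else if v = h0 then Polynomial.X else 0
  let ψ : S →+* Polynomial (GF k V) :=
    MvPolynomial.eval₂Hom (Polynomial.C.comp (algebraMap k (GF k V))) ev'
  have hQψ : Qm.map ψ = A.map Polynomial.C + Polynomial.X (R := GF k V) • B.map Polynomial.C := by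
    rw [hQmap ψ, Finset.sum_congr rfl (g := fun w : W => ev' w •
      ((Matrix.toLinAlgEquiv'.symm (bc (GF k V) (π (w : V)))).map Polynomial.C - 1)) fun w _ => by
      rw [show ψ.comp MvPolynomial.C = Polynomial.C.comp (algebraMap k (GF k V)) from
        RingHom.ext fun x => MvPolynomial.eval₂Hom_C _ _ x, ← hbcm, Matrix.map_map,
        show ψ (MvPolynomial.X (w : V)) = ev' w from MvPolynomial.eval₂Hom_X' _ _ _]
      rfl]
    rw [← Finset.sum_filter_add_sum_filter_not Finset.univ (fun w : W => (w : V) ∈ W')]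
    congr 1
    · rw [hA, hX', point, map_sum, ← RingHom.mapMatrix_apply, map_sum]
      refine Finset.sum_bij' (fun w hw => (⟨w, (Finset.mem_filter.1 hw).2⟩ : W'))
        (fun w _ => (⟨w, hle w.2⟩ : W)) (fun _ _ => Finset.mem_univ _) (fun w _ => by simp [w.2])
        (fun _ _ => rfl) (fun _ _ => rfl) ?_
      intro w hw
      have hw' := (Finset.mem_filter.1 hw).2
      simp only [ev', if_pos hw']
      rw [map_smul, RingHom.mapMatrix_apply, Matrix.map_smul' _ _ _ (map_mul _), ← RingHom.mapMatrix_apply,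
        ← RingHom.mapMatrix_apply, map_sub, map_one, map_sub, map_one, RingHom.mapMatrix_apply]
      rfl
    · rw [Finset.sum_eq_single h0]
      · simp only [ev', if_neg hh0', if_pos]
        rw [hB, map_sub, map_one, ← RingHom.mapMatrix_apply, ← RingHom.mapMatrix_apply, map_sub, map_one]
      · intro w hw hne
        simp only [ev', if_neg (Finset.mem_filter.1 hw).2,
          if_neg fun e : (w : V) = h0 => hne (Subtype.ext e), zero_smul]
      · intro hnot
        exact absurd (by simp [hh0']) hnot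
  have hXm : X' ^ (m + 1) = 0 := hX' ▸ point_nil (h.generic W') hm _
  have key : ∀ (Xa : Module.End (GF k V) (ι → GF k V)) (Ya : Zc Xa), Matrix.toLin' A = Xa →
      Matrix.toLin' B = (Ya : Module.End (GF k V) (ι → GF k V)) → Xa ^ (m + 1) = 0 → Layer Xa m i' →
      ind Xa m Ya ^ (m + 1) = 0 →
      finrank (GF k V) (ι → GF k V) ≤ (Qm.map (algebraMap S (GF k V))).rank +
        ((Qm ^ m).map (algebraMap S (GF k V))).rank + finrank (GF k V) (H0 (ind Xa m Ya) m) := by
    rintro _ ⟨y, hy⟩ rfl h1 h2 h3 h4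
    change Matrix.toLin' B = y at h1
    subst h1
    exact perturb_le (IsFractionRing.injective S (GF k V)) ψ Qm A B hQψ h2
      (not_dvd_m hm (hL'.pos.trans hL'.le)) hy hi' h3 h4
  subst hY0
  have hk := key X' ⟨_, hY⟩ hAX hBX hXm hL' hnil
  have hn' := finrank_H0 (point_nil (h.generic W) hm (fun w => xi k (w : V)))
  have hr : ∀ j, ((Qm ^ j).map (algebraMap S (GF k V))).rank =
      finrank (GF k V) (LinearMap.range ((point (piG π W) fun w => xi k (w : V)) ^ j)) := fun j => by
    rw [← hQalg, ← map_pow, map_pow_matrix]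
    rfl
  rw [hr m, ← pow_one Qm, hr 1, pow_one] at hk
  omega

omit [CharP k p] in
/-- A point with the kernel of a good point, and no larger layer space, is good. -/
theorem good_of_kernel {k' : Type*} [Field k'] {U : Type*} [AddCommMonoid U] [Module k' U]
    [Module.Finite k' U] {D E : Type*} [AddCommGroup D] [Module k' D] [FiniteDimensional k' D]
    [AddCommGroup E] [Module k' E] [FiniteDimensional k' E] (hle : finrank k' E ≤ finrank k' D)
    (F1 : U →ₗ[k'] Module.End k' D) (F2 : U →ₗ[k'] Module.End k' E) (hker : ∀ b, F1 b = 0 ↔ F2 b = 0)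
    (h1 : Function.Surjective F1) :
    Function.Surjective F2 ∧ finrank k' E = finrank k' D := by
  have e : LinearMap.ker F1 = LinearMap.ker F2 :=
    Submodule.ext fun b => by simp only [LinearMap.mem_ker, hker b]
  obtain ⟨s, hs⟩ := F1.exists_rightInverse_of_surjective (LinearMap.range_eq_top.2 h1)
  let Φ : Module.End k' D →ₗ[k'] Module.End k' E := F2 ∘ₗ s
  have hΦ : Function.Injective Φ := LinearMap.ker_eq_bot.1 (LinearMap.ker_eq_bot'.2 fun L hL => by
    have h2 := (hker (s L)).2 hL
    rwa [← LinearMap.comp_apply, hs] at h2)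
  have h3 := LinearMap.finrank_le_finrank_of_injective hΦ
  rw [Module.finrank_linearMap, Module.finrank_linearMap] at h3
  have h4 : finrank k' E = finrank k' D :=
    le_antisymm hle (Nat.mul_self_le_mul_self_iff.1 h3)
  refine ⟨fun L => ?_, h4⟩
  obtain ⟨L', rfl⟩ := (LinearMap.injective_iff_surjective_of_finrank_eq_finrank (by
    rw [Module.finrank_linearMap, Module.finrank_linearMap, h4])).1 hΦ L
  exact ⟨s L', rfl⟩

section Step

omit [CharP k p] in
/-- The representation on the layer space of `X'` at a good point controls the larger point. -/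
theorem IsAction.good_step {k' : Type*} [Field k'] [CharP k' p] {M : Type*} [AddCommGroup M] [Module k' M]
    [FiniteDimensional k' M] {K0 : Type*} [Group K0] [Fintype K0] {V0 : Type*} [CommGroup V0] [Fintype V0]
    {α : V0 →* MulAut K0} {ρ : K0 →* Module.End k' M} {π : V0 →* Module.End k' M}
    (hW : IsAction p α ρ π) (hm : m + 1 = p) {c : V0 → k'} (hc : Admissible p c)
    {X' : Module.End k' M} {i' : ℕ} (hX' : X' ^ (m + 1) = 0) (hi' : i' = 1 ∨ i' = m) (hL' : Layer X' m i')
    {K1 : Type*} [Group K1] [Fintype K1] {Z : Type*} [CommGroup Z] [Fintype Z] {α1 : Z →* MulAut K1}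
    {ρ1 : K1 →* Module.End k' (H0 X' m)} {π1 : Z →* Module.End k' (H0 X' m)} (h1 : IsAction p α1 ρ1 π1)
    {c1 : Z → k'} (hc1 : Admissible p c1) (hG1 : Good α1 ρ1 (point π1 c1) m)
    (e : fix α ≃ fix α1) (he : ∀ g : fix α, ∃ hg : ρ g ∈ Zc X', ρ1 (e g) = ind X' m ⟨_, hg⟩)
    (hle : finrank k' (H0 (point π c) m) ≤ finrank k' (H0 (point π1 c1) m)) :
    Good α ρ (point π c) m := by
  classical
  letI := Fintype.ofFinite (fix α)
  letI := Fintype.ofFinite (fix α1)
  choose hg hρ1 using he
  have hmk : (m : k') ≠ 0 := not_dvd_m hm (hL'.pos.trans hL'.le)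
  have hi'k : (i' : k') ≠ 0 := by
    rcases hi' with rfl | rfl
    · simp
    · exact hmk
  have hchar := charP_cast_succ (k := k') hm
  let F1 : (fix α → k') →ₗ[k'] Module.End k' (H0 (point π1 c1) m) :=
    (ind (point π1 c1) m).toLinearMap ∘ₗ
      (∑ g : fix α, (LinearMap.proj g).smulRight
        (⟨ρ1 (e g), h1.rho_mem c1 (e g)⟩ : Zc (point π1 c1)))
  let F2 : (fix α → k') →ₗ[k'] Module.End k' (H0 (point π c) m) :=
    (ind (point π c) m).toLinearMap ∘ₗ
      (∑ g : fix α, (LinearMap.proj g).smulRight (⟨ρ g, hW.rho_mem c g⟩ : Zc (point π c)))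
  have hF1 : ∀ b, F1 b = ind (point π1 c1) m ⟨_, h1.evC_mem c1 fun g => b (e.symm g)⟩ := fun b => by
    refine congrArg (ind (point π1 c1) m) (Subtype.ext ?_)
    rw [LinearMap.sum_apply, AddSubmonoidClass.coe_finsetSum]
    show _ = evC α1 ρ1 _
    rw [evC_apply]
    exact Fintype.sum_equiv e _ _ fun g => by simp
  have hF2 : ∀ b, F2 b = ind (point π c) m ⟨_, hW.evC_mem c b⟩ := fun b => by
    refine congrArg (ind (point π c) m) (Subtype.ext ?_)
    rw [LinearMap.sum_apply, AddSubmonoidClass.coe_finsetSum]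
    show _ = evC α ρ b
    rw [evC_apply]
    rfl
  have hker : ∀ b, F1 b = 0 ↔ F2 b = 0 := by
    intro b
    rw [hF1, hF2, ind_eq_zero_iff, ind_eq_zero_iff, h1.kills_iff hm hc1, hW.kills_iff hm hc]
    have tr : ∀ x : fix α, LinearMap.trace k' M (evC α ρ b * ρ x) = (i' : k') *
        LinearMap.trace k' (H0 X' m) (evC α1 ρ1 (fun g => b (e.symm g)) * ρ1 (e x)) := by
      intro x
      have hz : evC α ρ b * ρ x ∈ Zc X' := by
        refine mul_mem ?_ (hg x)
        rw [evC_apply]
        exact sum_mem fun g _ => Subalgebra.smul_mem _ (hg g) _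
      rw [show evC α ρ b * ρ x = ((⟨_, hz⟩ : Zc X') : Module.End k' M) from rfl,
        hL'.trace_eq hX' hchar]
      congr 2
      rw [show (⟨_, hz⟩ : Zc X') = (∑ g : fix α, b g • ⟨_, hg g⟩) * ⟨_, hg x⟩ from Subtype.ext (by
        show evC α ρ b * ρ x = _
        rw [MulMemClass.coe_mul, AddSubmonoidClass.coe_finsetSum, evC_apply]; rfl), map_mul, map_sum,
        hρ1 x, evC_apply]
      congr 1
      exact Fintype.sum_equiv e _ _ fun g => by
        rw [Equiv.symm_apply_apply, hρ1]
        exact map_smul _ _ _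
    constructor
    · intro hr x
      rw [tr, hr (e x), mul_zero]
    · intro hr g
      have := hr (e.symm g)
      rw [tr, Equiv.apply_symm_apply, mul_eq_zero] at this
      exact this.resolve_left hi'k
  have hs1 : Function.Surjective F1 := fun L => by
    obtain ⟨b, hb, rfl⟩ := hG1.full L
    refine ⟨fun g => b (e g), (hF1 _).trans ?_⟩
    congr 1
    exact Subtype.ext (by simp)
  obtain ⟨hs2, hdeq⟩ := good_of_kernel hle F1 F2 hker hs1
  have hfull : ∀ L : Module.End k' (H0 (point π c) m),
      ∃ (b : fix α → k') (hb : evC α ρ b ∈ Zc (point π c)), ind (point π c) m ⟨_, hb⟩ = L := fun L => by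
    obtain ⟨b, rfl⟩ := hs2 L
    exact ⟨b, _, (hF2 b).symm⟩
  obtain ⟨i, hLi⟩ := exists_layer (point_nil hW hm c) (hW.nonzero hm c) fun L => by
    obtain ⟨b, hb, e'⟩ := hfull L
    exact ⟨_, e'⟩
  refine ⟨⟨i, ?_, hLi⟩, hfull⟩
  obtain ⟨i'', hi'', hL''⟩ := hG1.layer
  have hdim : ∀ {M' : Type _} [AddCommGroup M'] [Module k' M'] [FiniteDimensional k' M']
      {X : Module.End k' M'} {j : ℕ}, X ^ (m + 1) = 0 → Layer X m j →
      (finrank k' M' : k') = (j : k') * finrank k' (H0 X m) := by
    intro M' _ _ _ X j hX hl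
    have := hl.trace_eq hX hchar 1
    rwa [map_one (ind X m), OneMemClass.coe_one, Module.End.one_eq_id, LinearMap.trace_id,
      Module.End.one_eq_id, LinearMap.trace_id] at this
  have d1 := hdim (point_nil hW hm c) hLi
  have d2 := hdim hX' hL'
  have d3 := hdim (point_nil h1 hm c1) hL''
  rw [hdeq] at d1
  rw [d3, ← mul_assoc] at d2
  have hd : (finrank k' (H0 (point π1 c1) m) : k') ≠ 0 := fun e' => hW.finrank_ne (by
    rw [d1, e', mul_zero])
  have hik : (i : k') = (i' : k') * i'' := mul_right_cancel₀ hd (d1.symm.trans d2)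
  have hneg : (m : k') = -1 := eq_neg_of_add_eq_zero_left (by
    rwa [Nat.cast_add, Nat.cast_one] at hchar)
  have hinj : ∀ j, j ≤ m → (i : k') = (j : k') → i = j := fun j hj e' => by
    have := (CharP.natCast_eq_natCast k' p).1 e'
    rwa [Nat.ModEq, Nat.mod_eq_of_lt (by have := hLi.le; omega), Nat.mod_eq_of_lt (by omega)] at this
  have h1m : 1 ≤ m := hLi.pos.trans hLi.le
  rcases hi' with rfl | rfl <;> rcases hi'' with rfl | rfl
  · exact Or.inl (hinj 1 h1m (by simpa using hik))
  · exact Or.inr (hinj _ le_rfl (by simpa using hik))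
  · exact Or.inr (hinj _ le_rfl (by simpa using hik))
  · exact Or.inl (hinj 1 h1m (by rw [hik, hneg]; simp))

end Step

/-- The generic point of a subgroup is good. -/
theorem generic_good (h : IsAction p α ρ π) (hm : m + 1 = p) :
    ∀ W : Subgroup V, Good (α.comp W.subtype) (rhoG (V := V) ρ) (genPoint π W) m := by
  classical
  haveI : CharP (GF k V) p := charP_of_injective_algebraMap (algebraMap k (GF k V)).injective p
  intro W
  induction hn : Nat.card W using Nat.strong_induction_on generalizing W with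
  | _ n ih =>
  letI := Fintype.ofFinite W
  have hW := h.generic W
  have hadm := admissible_xi (k := k) (p := p) W
  rw [genPoint_eq]
  by_cases hR : (powMonoidHom p : W →* W).range = ⊤
  · -- trivial action
    refine hW.good_of_commutant hm hadm fun a _ v => ?_
    obtain ⟨u, hu⟩ := (MonoidHom.range_eq_top.1 hR) v
    rw [← hu, powMonoidHom_apply, map_pow, hW.pi_pow]
    exact Commute.one_left a
  obtain ⟨a, ha, haR, h0, hh0⟩ := exists_separating (p := p) hR fun v => ⟨v, rfl⟩
  have ha1 : a 1 = 0 := by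
    have := ha 1 1
    rw [one_mul] at this
    exact left_eq_add.1 this
  let W' : Subgroup V :=
    { carrier := {v | ∃ hv : v ∈ W, a ⟨v, hv⟩ = 0}
      one_mem' := ⟨W.one_mem, ha1⟩
      mul_mem' := fun {x y} ⟨hx, hx'⟩ ⟨hy, hy'⟩ => ⟨W.mul_mem hx hy, by
        rw [show (⟨x * y, W.mul_mem hx hy⟩ : W) = ⟨x, hx⟩ * ⟨y, hy⟩ from rfl, ha, hx', hy', add_zero]⟩
      inv_mem' := fun {x} ⟨hx, hx'⟩ => ⟨W.inv_mem hx, by
        have := ha ⟨x, hx⟩ ⟨x⁻¹, W.inv_mem hx⟩
        rw [show (⟨x, hx⟩ : W) * ⟨x⁻¹, W.inv_mem hx⟩ = 1 from Subtype.ext (mul_inv_cancel x), ha1, hx',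
          zero_add] at this
        exact this.symm⟩ }
  have hW'le : W' ≤ W := fun v hv => hv.1
  have hh0' : (h0 : V) ∉ W' := fun ⟨_, hv⟩ => one_ne_zero (hh0.symm.trans hv)
  have hlt : Nat.card W' < n := hn ▸ Set.Finite.card_lt_card (Set.toFinite (W : Set V))
    (Set.ssubset_iff_of_subset hW'le |>.2 ⟨h0, h0.2, hh0'⟩)
  have hgood' := ih _ hlt W' rfl
  letI := Fintype.ofFinite W'
  have hW' := h.generic W'
  rw [genPoint_eq] at hgood'
  set X' := point (piG π W') fun w => xi k (w : V) with hX'
  obtain ⟨i', hi', hL'⟩ := hgood'.layer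
  set K' := fix (α.comp W'.subtype) with hK'
  letI := Fintype.ofFinite K'
  have hinv : ∀ (v : V) (g : K'), α v g ∈ K' := fun v g w => by
    show α (w : V) (α v g) = α v g
    rw [← MulAut.mul_apply, ← map_mul, mul_comm, map_mul, MulAut.mul_apply]
    exact congrArg _ (g.2 w)
  let α0 : V →* MulAut K' :=
    { toFun := fun v =>
        { toFun := fun g => ⟨α v g, hinv v g⟩
          invFun := fun g => ⟨α v⁻¹ g, hinv v⁻¹ g⟩
          left_inv := fun g => Subtype.ext (by
            show α v⁻¹ (α v g) = g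
            rw [← MulAut.mul_apply, ← map_mul, inv_mul_cancel, map_one]; rfl)
          right_inv := fun g => Subtype.ext (by
            show α v (α v⁻¹ g) = g
            rw [← MulAut.mul_apply, ← map_mul, mul_inv_cancel, map_one]; rfl)
          map_mul' := fun g g' => Subtype.ext (map_mul (α v) _ _) }
      map_one' := MulEquiv.ext fun g => Subtype.ext (by show α 1 g = g; rw [map_one]; rfl)
      map_mul' := fun v w => MulEquiv.ext fun g => Subtype.ext (by
        show α (v * w) g = α v (α w g); rw [map_mul]; rfl) }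
  set bπ : V →* Module.End (GF k V) (ι → GF k V) := (bc (GF k V)).toMonoidHom.comp π with hbπ
  have hπmem : ∀ v, bπ v ∈ Zc X' := fun v => mem_Zc.2 (commute_point _ fun w => by
    show Commute (bπ (w : V)) (bπ v)
    rw [Commute, SemiconjBy, ← map_mul, ← map_mul, mul_comm])
  let π0 : V →* Module.End (GF k V) (H0 X' m) :=
    (ind X' m).toMonoidHom.comp (bπ.codRestrict (Zc X').toSubmonoid hπmem)
  have hρmem : ∀ g : K', rhoG ρ (g : K) ∈ Zc X' := fun g => hW'.rho_mem _ g
  let ρ0 : K' →* Module.End (GF k V) (H0 X' m) :=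
    (ind X' m).toMonoidHom.comp (((rhoG ρ).comp K'.subtype).codRestrict (Zc X').toSubmonoid hρmem)
  let Z := Subgroup.zpowers (h0 : V)
  letI := Fintype.ofFinite Z
  let α1 : Z →* MulAut K' := α0.comp Z.subtype
  let π1 : Z →* Module.End (GF k V) (H0 X' m) := π0.comp Z.subtype
  have hevmem : ∀ b : K' → GF k V, evC (α.comp W'.subtype) (rhoG ρ) b ∈ Zc X' := hW'.evC_mem _
  have hind : ∀ b : K' → GF k V, ind X' m ⟨_, hevmem b⟩ = ∑ g : K', b g • ρ0 g := by
    intro b
    have e : (⟨_, hevmem b⟩ : Zc X') = ∑ g : K', b g • ⟨_, hρmem g⟩ :=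
      Subtype.ext (by
        simp only [evC_apply, AddSubmonoidClass.coe_finsetSum, SetLike.val_smul]
        exact Finset.sum_congr (Finset.ext fun _ => by simp) fun _ _ => rfl)
    rw [e, map_sum]
    exact Finset.sum_congr rfl fun g _ => map_smul _ _ _
  have hact : IsAction p α1 ρ0 π1 := by
    refine ⟨fun v g => ?_, fun v => ?_, fun v => ?_, ?_, ?_, ?_⟩
    · show ind X' m _ * ind X' m _ = ind X' m _ * ind X' m _
      rw [← map_mul, ← map_mul]
      congr 1
      exact Subtype.ext ((h.generic ⊤).compat ⟨v, Subgroup.mem_top _⟩ (g : K))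
    · show ind X' m _ ^ p = 1
      rw [← map_pow, ← map_one (ind X' m)]
      congr 1
      exact Subtype.ext ((h.generic ⊤).pi_pow ⟨v, Subgroup.mem_top _⟩)
    · refine MulEquiv.ext fun g => Subtype.ext ?_
      show ((α0 (v : V) ^ p) g : K) = g
      rw [← map_pow]
      show α ((v : V) ^ p) g = g
      rw [map_pow, h.alpha_pow]; rfl
    · rw [eq_top_iff]
      rintro L -
      obtain ⟨b, hb, rfl⟩ := hgood'.full L
      rw [show (⟨_, hb⟩ : Zc X') = ⟨_, hevmem b⟩ from rfl, hind b]
      exact Submodule.sum_mem _ fun g _ => Submodule.smul_mem _ _ (Submodule.subset_span ⟨g, rfl⟩)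
    · have : Nat.card K' ∣ Nat.card K := Subgroup.card_subgroup_dvd_card K'
      obtain ⟨t, ht⟩ := this
      intro h1
      exact hW'.card_ne (by rw [ht, Nat.cast_mul, h1, zero_mul])
    · exact Submodule.Quotient.nontrivial_iff.2 fun htop => hW'.nonzero hm _ fun v hv =>
        (show (⟨v, hv⟩ : LinearMap.ker X') ∈ (LinearMap.range (X' ^ m)).submoduleOf _ from
          htop ▸ Submodule.mem_top)
  let c1 : Z → GF k V := fun z => if (z : V) = h0 then 1 else 0
  set hz : Z := ⟨h0, Subgroup.mem_zpowers _⟩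
  have hpt : point π1 c1 = π1 hz - 1 := by
    rw [point, Finset.sum_eq_single hz (fun z _ hne => by
      rw [show c1 z = 0 from if_neg fun e => hne (Subtype.ext e), zero_smul]) (by simp),
      show c1 hz = 1 from if_pos rfl, one_smul]
  have hzpow : ∀ z : Z, ∃ j : ℕ, hz ^ j = z := fun z => by
    obtain ⟨j, hj⟩ := (mem_powers_iff_mem_zpowers (x := (h0 : V))).2 z.2
    exact ⟨j, Subtype.ext hj⟩
  have hadm1 : Admissible p c1 := by
    rintro b hb ⟨z, hz0⟩ hs
    have hb1 : b 1 = 0 := by
      have := hb 1 1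
      rw [one_mul] at this
      exact left_eq_add.1 this
    rw [slope, Finset.sum_eq_single hz (fun z _ hne => by
      rw [show c1 z = 0 from if_neg fun e => hne (Subtype.ext e), zero_mul]) (by simp),
      show c1 hz = 1 from if_pos rfl, one_mul, CharP.cast_eq_zero_iff (GF k V) p] at hs
    have hbz : b hz = 0 := by rw [← ZMod.natCast_zmod_val (b hz), (CharP.cast_eq_zero_iff (ZMod p) p _).2 hs]
    obtain ⟨j, rfl⟩ := hzpow z
    apply hz0
    induction j with
    | zero => rw [pow_zero, hb1]
    | succ j ihj => rw [pow_succ, hb, hbz, add_zero]; exact not_not.1 fun hne => hne (ihj hne)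
  have hgood1 := hact.good_of_commutant hm hadm1 fun b hb z => by
    obtain ⟨j, rfl⟩ := hzpow z
    rw [map_pow]
    rw [hpt] at hb
    have := hb.add_left (Commute.one_left b)
    rw [sub_add_cancel] at this
    exact this.pow_left j
  obtain ⟨i'', hi'', hL''⟩ := hgood1.layer
  have hnil1 := point_nil hact hm c1
  rw [hpt] at hgood1 hL'' hnil1
  have hY : bc (GF k V) (π (h0 : V)) - 1 ∈ Zc X' := sub_mem (hπmem _) (one_mem _)
  have hY0 : ind X' m ⟨_, hY⟩ = π1 hz - 1 := by
    have e : (⟨_, hY⟩ : Zc X') + 1 = (⟨_, hπmem (h0 : V)⟩ : Zc X') :=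
      Subtype.ext (sub_add_cancel (bc (GF k V) (π (h0 : V))) 1)
    have e' := congrArg (ind X' m) e
    rw [map_add, map_one] at e'
    exact eq_sub_of_add_eq e'
  have hbound := finrank_H0_le h hm hW'le h0 hh0' X' hX' hi' hL' hY _ hY0 hnil1
  have hmk : (m : GF k V) ≠ 0 := not_dvd_m hm (hL'.pos.trans hL'.le)
  have hXm := point_nil hW' hm (fun w => xi k (w : V))
  -- the fixed subgroup
  set C := fix (α.comp W.subtype) with hC
  letI := Fintype.ofFinite C
  letI := Fintype.ofFinite (fix α1)
  have hgen : ∀ w : W, ∃ (u : W') (j : ℕ), (w : V) = (u : V) * (h0 : V) ^ j := by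
    intro w
    have hpw : ∀ j : ℕ, a (h0 ^ j) = (j : ZMod p) := fun j => by
      induction j with
      | zero => simp [ha1]
      | succ j ihj => rw [pow_succ, ha, ihj, hh0, Nat.cast_succ]
    refine ⟨⟨(w * (h0 ^ (a w).val)⁻¹ : W), (w * (h0 ^ (a w).val)⁻¹).2, ?_⟩, (a w).val, ?_⟩
    · have := ha (w * (h0 ^ (a w).val)⁻¹) (h0 ^ (a w).val)
      rw [inv_mul_cancel_right, hpw, ZMod.natCast_zmod_val] at this
      exact right_eq_add.1 this
    · simp [mul_assoc]
  let eC : C ≃ fix α1 :=
    { toFun := fun g => ⟨⟨g, fun w => mem_fix.1 g.2 ⟨w, hW'le w.2⟩⟩, fun z => Subtype.ext (by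
        obtain ⟨j, rfl⟩ := hzpow z
        show α ((h0 : V) ^ j) (g : K) = g
        exact mem_fix.1 g.2 (h0 ^ j))⟩
      invFun := fun g => ⟨((g : K') : K), fun w => by
        obtain ⟨u, j, e⟩ := hgen w
        show α (w : V) ((g : K') : K) = ((g : K') : K)
        rw [e, map_mul, MulAut.mul_apply]
        have h2 := congrArg Subtype.val (mem_fix.1 g.2 (hz ^ j))
        change α ((h0 : V) ^ j) ((g : K') : K) = _ at h2
        rw [h2]
        exact (g : K').2 u⟩
      left_inv := fun _ => rfl
      right_inv := fun _ => rfl }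
  refine hW.good_step hm hadm hXm hi' hL' hact hadm1 (hpt.symm ▸ hgood1) eC
    (fun g => ⟨hρmem ((eC g : fix α1) : K'), rfl⟩) ?_
  rw [hpt]
  exact hbound

end CfsgLib.Block.GenericPoint
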