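import Mathlib

/-!
# A nilpotent operator and the layer of its blocks of size less than `p`

For an operator `X` with `X ^ (m + 1) = 0` the space `ker X / im X ^ m` counts the Jordan blocks of size
at most `m`.  Operators commuting with `X` act on it; `Layer X m i` says that all those blocks have
size `i`.
-/

set_option autoImplicit false

namespace CfsgLib.Block.GenericPoint

open Module LinearMap

variable {k M : Type*} [Field k] [AddCommGroup M] [Module k M]

/-- The space `ker X / im X ^ m`. -/
abbrev H0 (X : Module.End k M) (m : ℕ) : Type _ :=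
  LinearMap.ker X ⧸ (LinearMap.range (X ^ m)).submoduleOf (LinearMap.ker X)

/-- The operators commuting with `X`. -/
abbrev Zc (X : Module.End k M) : Subalgebra k (Module.End k M) :=
  Subalgebra.centralizer k {X}

theorem mem_Zc {X a : Module.End k M} : a ∈ Zc X ↔ Commute X a := by
  simp [Zc, Subalgebra.mem_centralizer_iff, Commute, SemiconjBy]

theorem zc_comm {X : Module.End k M} (a : Zc X) : Commute X (a : Module.End k M) := mem_Zc.1 a.2

theorem apply_pow_comm {X a : Module.End k M} (h : Commute X a) (j : ℕ) (v : M) :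
    a ((X ^ j) v) = (X ^ j) (a v) :=
  (LinearMap.congr_fun (h.pow_left j).eq v).symm

theorem map_ker_le {X a : Module.End k M} (h : Commute X a) {v : M} (hv : v ∈ LinearMap.ker X) :
    a v ∈ LinearMap.ker X := by
  rw [LinearMap.mem_ker] at hv ⊢
  rw [show X (a v) = a (X v) from LinearMap.congr_fun h.eq v, hv, map_zero]

theorem map_range_le {X a : Module.End k M} (h : Commute X a) (j : ℕ) {v : M}
    (hv : v ∈ LinearMap.range (X ^ j)) : a v ∈ LinearMap.range (X ^ j) := by
  obtain ⟨u, rfl⟩ := hv
  exact ⟨a u, (apply_pow_comm h j u).symm⟩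

/-- The operator induced on `ker X / im X ^ m`. -/
noncomputable def indLin (X : Module.End k M) (m : ℕ) (a : Zc X) : Module.End k (H0 X m) :=
  Submodule.mapQ _ _ ((a : Module.End k M).restrict fun _ hv => map_ker_le (zc_comm a) hv)
    fun _ hv => map_range_le (zc_comm a) m hv

theorem indLin_mk (X : Module.End k M) (m : ℕ) (a : Zc X) (v : LinearMap.ker X) :
    indLin X m a (Submodule.Quotient.mk v) =
      Submodule.Quotient.mk ⟨(a : Module.End k M) v, map_ker_le (zc_comm a) v.2⟩ := rfl

/-- The action of the commuting operators. -/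
noncomputable def ind (X : Module.End k M) (m : ℕ) : Zc X →ₐ[k] Module.End k (H0 X m) where
  toFun := indLin X m
  map_one' := by refine LinearMap.ext fun x => ?_; induction x using Submodule.Quotient.induction_on; rfl
  map_mul' a b := by
    refine LinearMap.ext fun x => ?_; induction x using Submodule.Quotient.induction_on; rfl
  map_zero' := by refine LinearMap.ext fun x => ?_; induction x using Submodule.Quotient.induction_on; rfl
  map_add' a b := by
    refine LinearMap.ext fun x => ?_; induction x using Submodule.Quotient.induction_on; rfl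
  commutes' c := by
    refine LinearMap.ext fun x => ?_; induction x using Submodule.Quotient.induction_on; rfl

theorem ind_mk (X : Module.End k M) (m : ℕ) (a : Zc X) (v : LinearMap.ker X) :
    ind X m a (Submodule.Quotient.mk v) =
      Submodule.Quotient.mk ⟨(a : Module.End k M) v, map_ker_le (zc_comm a) v.2⟩ := rfl

/-- The operator maps `ker X` into `im X ^ m`. -/
def Kills (X : Module.End k M) (m : ℕ) (a : Module.End k M) : Prop :=
  ∀ v ∈ LinearMap.ker X, a v ∈ LinearMap.range (X ^ m)

theorem ind_eq_zero_iff {X : Module.End k M} {m : ℕ} (a : Zc X) :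
    ind X m a = 0 ↔ Kills X m (a : Module.End k M) := by
  constructor
  · intro h v hv
    have := LinearMap.congr_fun h (Submodule.Quotient.mk ⟨v, hv⟩)
    rw [ind_mk, LinearMap.zero_apply, Submodule.Quotient.mk_eq_zero] at this
    exact this
  · intro h
    refine LinearMap.ext fun x => ?_
    induction x using Submodule.Quotient.induction_on with
    | _ v =>
      rw [ind_mk, LinearMap.zero_apply, Submodule.Quotient.mk_eq_zero]
      exact h v v.2

/-- `b ↦ ∑ Xˡ b Xᵐ⁻ˡ`. -/
noncomputable def trForm (X : Module.End k M) (m : ℕ) : Module.End k M →ₗ[k] Module.End k M :=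
  ∑ l ∈ Finset.range (m + 1), LinearMap.mulLeftRight k (X ^ l, X ^ (m - l))

theorem trForm_apply (X : Module.End k M) (m : ℕ) (b : Module.End k M) (v : M) :
    trForm X m b v = ∑ l ∈ Finset.range (m + 1), (X ^ l) (b ((X ^ (m - l)) v)) := by
  simp [trForm, LinearMap.sum_apply, Module.End.mul_apply]

theorem pow_apply_ker {X : Module.End k M} {v : M} (hv : v ∈ LinearMap.ker X) {j : ℕ} (hj : j ≠ 0) :
    (X ^ j) v = 0 := by
  obtain ⟨j, rfl⟩ := Nat.exists_eq_succ_of_ne_zero hj
  rw [pow_succ, Module.End.mul_apply, LinearMap.mem_ker.1 hv, map_zero]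

theorem kills_trForm {X : Module.End k M} {m : ℕ} {a : Module.End k M}
    (h : a ∈ LinearMap.range (trForm X m)) : Kills X m a := by
  obtain ⟨b, rfl⟩ := h
  intro v hv
  rw [trForm_apply, Finset.sum_eq_single m (fun l hl hne => by
    rw [pow_apply_ker hv (by have := Finset.mem_range.1 hl; omega), map_zero, map_zero]) (by simp)]
  exact ⟨_, rfl⟩

/-- All blocks of size at most `m` have size `i`. -/
structure Layer (X : Module.End k M) (m i : ℕ) : Prop where
  pos : 1 ≤ i
  le : i ≤ m
  ker_le : LinearMap.ker X ≤ LinearMap.range (X ^ (i - 1))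
  inf_le : LinearMap.ker X ⊓ LinearMap.range (X ^ i) ≤ LinearMap.range (X ^ m)

theorem range_pow_le {X : Module.End k M} {a b : ℕ} (h : a ≤ b) :
    LinearMap.range (X ^ b) ≤ LinearMap.range (X ^ a) := by
  rintro _ ⟨u, rfl⟩
  exact ⟨(X ^ (b - a)) u, by rw [← Module.End.mul_apply, ← pow_add, Nat.add_sub_cancel' h]⟩

theorem range_top_le_ker {X : Module.End k M} {m : ℕ} (hX : X ^ (m + 1) = 0) :
    LinearMap.range (X ^ m) ≤ LinearMap.ker X := by
  rintro _ ⟨u, rfl⟩
  rw [LinearMap.mem_ker, ← Module.End.mul_apply, ← pow_succ', hX, LinearMap.zero_apply]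

section Trace

variable {U W : Type*} [AddCommGroup U] [Module k U] [AddCommGroup W] [Module k W]

/-- The trace on a space mapped onto another. -/
theorem trace_eq_ker_add [FiniteDimensional k U] [FiniteDimensional k W] (f : U →ₗ[k] W)
    (hf : Function.Surjective f) (a : Module.End k U) (b : Module.End k W)
    (hab : ∀ u, f (a u) = b (f u)) :
    LinearMap.trace k U a =
      LinearMap.trace k (LinearMap.ker f)
        (a.restrict fun u hu => LinearMap.mem_ker.2 (by rw [hab, LinearMap.mem_ker.1 hu, map_zero])) +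
        LinearMap.trace k W b := by
  obtain ⟨s, hs⟩ := f.exists_rightInverse_of_surjective (LinearMap.range_eq_top.2 hf)
  have hs' : ∀ w, f (s w) = w := fun w => LinearMap.congr_fun hs w
  let π : U →ₗ[k] LinearMap.ker f := (LinearMap.id - s ∘ₗ f).codRestrict _ fun u => by simp [hs']
  have e : a = a ∘ₗ (LinearMap.ker f).subtype ∘ₗ π + (a ∘ₗ s) ∘ₗ f := by
    refine LinearMap.ext fun u => ?_
    simp [π]
  conv_lhs => rw [e, map_add]
  congr 1
  · rw [← LinearMap.comp_assoc, LinearMap.trace_comp_comm']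
    congr 1
    refine LinearMap.ext fun u => Subtype.ext ?_
    simp [π, hab, LinearMap.mem_ker.1 u.2]
  · rw [LinearMap.trace_comp_comm']
    congr 1
    refine LinearMap.ext fun w => ?_
    simp [hab, hs']

/-- The trace on an invariant subspace. -/
noncomputable def trOn (a : Module.End k U) (A : Submodule k U) (h : ∀ v ∈ A, a v ∈ A) : k :=
  LinearMap.trace k A (a.restrict h)

theorem trOn_congr {a : Module.End k U} {A B : Submodule k U} (e : A = B) (hA : ∀ v ∈ A, a v ∈ A)
    (hB : ∀ v ∈ B, a v ∈ B) : trOn a A hA = trOn a B hB := by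
  subst e; rfl

theorem trOn_add [FiniteDimensional k U] {a : Module.End k U} {A B : Submodule k U} (hBA : B ≤ A)
    (hA : ∀ v ∈ A, a v ∈ A) (hB : ∀ v ∈ B, a v ∈ B) :
    trOn a A hA = trOn a B hB + LinearMap.trace k (A ⧸ B.submoduleOf A)
      (Submodule.mapQ _ _ (a.restrict hA) fun _ hv => hB _ hv) := by
  rw [trOn, trace_eq_ker_add (B.submoduleOf A).mkQ (Submodule.mkQ_surjective _) (a.restrict hA)
    (Submodule.mapQ _ _ (a.restrict hA) fun _ hv => hB _ hv) fun u => rfl]
  congr 1
  let e : LinearMap.ker (B.submoduleOf A).mkQ ≃ₗ[k] B :=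
    (LinearEquiv.ofEq _ _ (Submodule.ker_mkQ _)).trans (Submodule.submoduleOfEquivOfLe hBA)
  refine (LinearMap.trace_conj' _ e).symm.trans ?_
  rw [trOn]
  congr 1

end Trace

variable [FiniteDimensional k M] {X : Module.End k M} {m : ℕ}

theorem trOn_top (a : Module.End k M) (h : ∀ v ∈ (⊤ : Submodule k M), a v ∈ (⊤ : Submodule k M)) :
    trOn a ⊤ h = LinearMap.trace k M a := by
  refine (LinearMap.trace_conj' _ Submodule.topEquiv).symm.trans ?_
  congr 1

/-- The trace of a commuting operator over the filtration by the images. -/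
theorem trace_filtration (hX : X ^ (m + 1) = 0) (a : Zc X) :
    LinearMap.trace k M (a : Module.End k M) = ∑ j ∈ Finset.range (m + 1),
      trOn (a : Module.End k M) (LinearMap.ker X ⊓ LinearMap.range (X ^ j))
        (fun _ hv => ⟨map_ker_le (zc_comm a) hv.1, map_range_le (zc_comm a) j hv.2⟩) := by
  set f : ℕ → k := fun j => trOn (a : Module.End k M) (LinearMap.range (X ^ j))
    fun _ hv => map_range_le (zc_comm a) j hv with hf
  have hstep : ∀ j, f j = trOn (a : Module.End k M) (LinearMap.ker X ⊓ LinearMap.range (X ^ j))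
      (fun _ hv => ⟨map_ker_le (zc_comm a) hv.1, map_range_le (zc_comm a) j hv.2⟩) + f (j + 1) := by
    intro j
    let g : LinearMap.range (X ^ j) →ₗ[k] LinearMap.range (X ^ (j + 1)) :=
      X.restrict fun v hv => by
        obtain ⟨u, rfl⟩ := hv
        exact ⟨u, by rw [pow_succ', Module.End.mul_apply]⟩
    have hg : Function.Surjective g := by
      rintro ⟨_, u, rfl⟩
      exact ⟨⟨(X ^ j) u, u, rfl⟩, Subtype.ext (by simp [g, pow_succ'])⟩
    simp only [hf]
    rw [trOn, trace_eq_ker_add g hg ((a : Module.End k M).restrict fun _ hv => map_range_le (zc_comm a) j hv)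
      ((a : Module.End k M).restrict fun _ hv => map_range_le (zc_comm a) (j + 1) hv) fun u =>
        Subtype.ext (LinearMap.congr_fun (zc_comm a).eq (u : M))]
    congr 1
    let e : LinearMap.ker g ≃ₗ[k] (LinearMap.ker X ⊓ LinearMap.range (X ^ j) : Submodule k M) :=
      { toFun := fun u => ⟨(u : LinearMap.range (X ^ j)).1,
          LinearMap.mem_ker.2 (congrArg Subtype.val (LinearMap.mem_ker.1 u.2)), u.1.2⟩
        invFun := fun u => ⟨⟨u.1, u.2.2⟩, LinearMap.mem_ker.2 (Subtype.ext (LinearMap.mem_ker.1 u.2.1))⟩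
        map_add' := fun _ _ => rfl
        map_smul' := fun _ _ => rfl
        left_inv := fun _ => rfl
        right_inv := fun _ => rfl }
    refine (LinearMap.trace_conj' _ e).symm.trans ?_
    skip
    congr 1
  have htop : f 0 = LinearMap.trace k M (a : Module.End k M) :=
    (trOn_congr (by simp [Module.End.one_eq_id]) _ fun v _ => Submodule.mem_top).trans (trOn_top _ _)
  have hbot : f (m + 1) = 0 := by
    have hz : ((a : Module.End k M).restrict fun _ hv => map_range_le (zc_comm a) (m + 1) hv) = 0 := by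
      refine LinearMap.ext fun v => Subtype.ext ?_
      have hv : (v : M) = 0 := by
        obtain ⟨u, hu⟩ := v.2
        rw [← hu, hX, LinearMap.zero_apply]
      simp [hv]
    simp only [hf, trOn, hz, map_zero]
  have hind : ∀ n, f 0 = (∑ j ∈ Finset.range n,
      trOn (a : Module.End k M) (LinearMap.ker X ⊓ LinearMap.range (X ^ j))
        (fun _ hv => ⟨map_ker_le (zc_comm a) hv.1, map_range_le (zc_comm a) j hv.2⟩)) + f n := by
    intro n
    induction n with
    | zero => simp
    | succ n ih => rw [ih, Finset.sum_range_succ, hstep n, add_assoc]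
  rw [← htop, hind (m + 1), hbot, add_zero]

/-- An operator killing the layer space has trace zero in characteristic `m + 1`. -/
theorem trace_eq_zero_of_kills (hX : X ^ (m + 1) = 0) (hchar : ((m + 1 : ℕ) : k) = 0) (a : Zc X)
    (ha : Kills X m (a : Module.End k M)) : LinearMap.trace k M (a : Module.End k M) = 0 := by
  set F := trOn (a : Module.End k M) (LinearMap.range (X ^ m)) fun _ hv => map_range_le (zc_comm a) m hv
  rw [trace_filtration hX a, Finset.sum_congr rfl (g := fun _ => F) fun j hj => by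
    refine (trOn_add (le_inf (range_top_le_ker hX) (range_pow_le (Nat.lt_succ_iff.1 (Finset.mem_range.1 hj))))
      _ fun _ hv => map_range_le (zc_comm a) m hv).trans (add_eq_left.2 ?_)
    refine (congrArg (LinearMap.trace k _) (LinearMap.ext fun x => ?_)).trans (map_zero (LinearMap.trace k _))
    induction x using Submodule.Quotient.induction_on with
    | _ v =>
      show Submodule.Quotient.mk _ = 0
      rw [Submodule.Quotient.mk_eq_zero]
      exact ha _ v.2.1,
    Finset.sum_const, Finset.card_range, nsmul_eq_mul, hchar, zero_mul]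

/-- With one layer the trace is a multiple of the trace on it. -/
theorem Layer.trace_eq {i : ℕ} (hL : Layer X m i) (hX : X ^ (m + 1) = 0) (hchar : ((m + 1 : ℕ) : k) = 0)
    (a : Zc X) :
    LinearMap.trace k M (a : Module.End k M) = (i : k) * LinearMap.trace k (H0 X m) (ind X m a) := by
  set F := trOn (a : Module.End k M) (LinearMap.range (X ^ m)) fun _ hv => map_range_le (zc_comm a) m hv with hF
  set T := LinearMap.trace k (H0 X m) (ind X m a) with hT
  have hlow : ∀ j < i, trOn (a : Module.End k M) (LinearMap.ker X ⊓ LinearMap.range (X ^ j))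
      (fun _ hv => ⟨map_ker_le (zc_comm a) hv.1, map_range_le (zc_comm a) j hv.2⟩) = F + T := by
    intro j hj
    refine (trOn_congr (inf_eq_left.2 (hL.ker_le.trans (range_pow_le (show j ≤ i - 1 by omega)))) _
      fun _ hv => map_ker_le (zc_comm a) hv).trans ?_
    exact trOn_add (range_top_le_ker hX) _ fun _ hv => map_range_le (zc_comm a) m hv
  have hhigh : ∀ j, i ≤ j → j ≤ m → trOn (a : Module.End k M) (LinearMap.ker X ⊓ LinearMap.range (X ^ j))
      (fun _ hv => ⟨map_ker_le (zc_comm a) hv.1, map_range_le (zc_comm a) j hv.2⟩) = F := by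
    intro j h1 h2
    exact trOn_congr (le_antisymm (fun v hv => hL.inf_le ⟨hv.1, range_pow_le h1 hv.2⟩)
      (le_inf (range_top_le_ker hX) (range_pow_le h2))) _ _
  rw [trace_filtration hX a, ← Finset.sum_range_add_sum_Ico _ (show i ≤ m + 1 by have := hL.le; omega),
    Finset.sum_congr rfl (g := fun _ => F + T) fun j hj => hlow j (Finset.mem_range.1 hj),
    Finset.sum_congr rfl (g := fun _ => F) fun j hj => hhigh j (Finset.mem_Ico.1 hj).1
      (by have := (Finset.mem_Ico.1 hj).2; omega),
    Finset.sum_const, Finset.sum_const, Finset.card_range, Nat.card_Ico, nsmul_eq_mul, nsmul_eq_mul,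
    Nat.cast_sub (by have := hL.le; omega), hchar]
  ring

/-- If the commuting operators act as all operators on the layer space there is one layer. -/
theorem exists_layer (hX : X ^ (m + 1) = 0) (hne : ¬ LinearMap.ker X ≤ LinearMap.range (X ^ m))
    (hfull : ∀ L : Module.End k (H0 X m), ∃ a : Zc X, ind X m a = L) : ∃ i, Layer X m i := by
  classical
  have hex : ∃ j, LinearMap.ker X ⊓ LinearMap.range (X ^ j) ≤ LinearMap.range (X ^ m) :=
    ⟨m, inf_le_right⟩
  obtain ⟨i, hi, hmin⟩ : ∃ i, LinearMap.ker X ⊓ LinearMap.range (X ^ i) ≤ LinearMap.range (X ^ m) ∧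
      ∀ j < i, ¬ LinearMap.ker X ⊓ LinearMap.range (X ^ j) ≤ LinearMap.range (X ^ m) :=
    ⟨Nat.find hex, Nat.find_spec hex, fun j hj => Nat.find_min hex hj⟩
  have hpos : 1 ≤ i := by
    by_contra h
    obtain rfl : i = 0 := by omega
    exact hne (le_trans (le_inf le_rfl (by simp [Module.End.one_eq_id])) hi)
  refine ⟨i, hpos, not_lt.1 fun h => hmin m h inf_le_right, ?_, hi⟩
  obtain ⟨v, ⟨hv1, hv2⟩, hv3⟩ := SetLike.not_le_iff_exists.1 (hmin (i - 1) (by omega))
  intro w hw
  set v' : LinearMap.ker X := ⟨v, hv1⟩ with hv'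
  have hv0 : (Submodule.Quotient.mk v' : H0 X m) ≠ 0 := fun h =>
    hv3 (show v' ∈ (LinearMap.range (X ^ m)).submoduleOf (LinearMap.ker X) from
      (Submodule.Quotient.mk_eq_zero _).1 h)
  obtain ⟨φ, hφ⟩ := Module.Projective.exists_dual_eq_one k hv0
  obtain ⟨a, ha⟩ := hfull (LinearMap.smulRight φ (Submodule.Quotient.mk ⟨w, hw⟩))
  have h1 := LinearMap.congr_fun ha (Submodule.Quotient.mk v')
  rw [ind_mk, LinearMap.smulRight_apply, hφ, one_smul, Submodule.Quotient.eq] at h1
  have h2 : (a : Module.End k M) v - w ∈ LinearMap.range (X ^ (i - 1)) := by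
    have h3 : i ≤ m := not_lt.1 fun h => hmin m h inf_le_right
    exact range_pow_le (by omega) h1
  have := Submodule.sub_mem _ (map_range_le (zc_comm a) (i - 1) hv2) h2
  rwa [sub_sub_cancel] at this

theorem exists_functional (S : Submodule k M) {x : M} (hx : x ∉ S) :
    ∃ φ : M →ₗ[k] k, φ x = 1 ∧ ∀ s ∈ S, φ s = 0 := by
  have h0 : (Submodule.Quotient.mk x : M ⧸ S) ≠ 0 := fun h => hx ((Submodule.Quotient.mk_eq_zero _).1 h)
  obtain ⟨f, hf⟩ := Module.Projective.exists_dual_eq_one k h0
  exact ⟨f ∘ₗ S.mkQ, hf, fun s hs => by simp [(Submodule.Quotient.mk_eq_zero _).2 hs]⟩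

/-- `∑_{l < i} Xˡ g ⊗ φ Xⁱ⁻¹⁻ˡ`. -/
noncomputable def rankOne (X : Module.End k M) (g : M) (φ : M →ₗ[k] k) (i : ℕ) : Module.End k M :=
  ∑ l ∈ Finset.range i, (φ ∘ₗ (X ^ (i - 1 - l))).smulRight ((X ^ l) g)

theorem rankOne_apply (g : M) (φ : M →ₗ[k] k) (i : ℕ) (v : M) :
    rankOne X g φ i v = ∑ l ∈ Finset.range i, φ ((X ^ (i - 1 - l)) v) • (X ^ l) g := by
  simp [rankOne, LinearMap.sum_apply]

theorem rankOne_mem {g : M} {φ : M →ₗ[k] k} {i : ℕ} (hg : (X ^ i) g = 0) (hφ : ∀ v, φ ((X ^ i) v) = 0) :
    rankOne X g φ i ∈ Zc X := by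
  rw [mem_Zc]
  refine LinearMap.ext fun v => ?_
  simp only [Module.End.mul_apply, rankOne_apply, map_sum, map_smul]
  rcases i with _ | j
  · simp
  rw [Finset.sum_range_succ, Finset.sum_range_succ' (fun l => φ ((X ^ (j + 1 - 1 - l)) (X v)) • (X ^ l) g),
    ← Module.End.mul_apply X, ← pow_succ', hg, smul_zero, add_zero,
    show φ ((X ^ (j + 1 - 1 - 0)) (X v)) = 0 by
      rw [← Module.End.mul_apply, ← pow_succ]; exact hφ v, zero_smul, add_zero]
  refine Finset.sum_congr rfl fun l hl => ?_
  have := Finset.mem_range.1 hl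
  rw [← Module.End.mul_apply X, ← pow_succ', ← Module.End.mul_apply (X ^ _) X, ← pow_succ]
  congr 4
  omega

/-- If the operators killing the layer space are transfers, there is one layer, of size `1` or `m`,
and every operator on the layer space comes from a commuting operator. -/
theorem layer_of_transfer (hX : X ^ (m + 1) = 0) (hne : ¬ LinearMap.ker X ≤ LinearMap.range (X ^ m))
    (hZ : ∀ a : Zc X, Kills X m (a : Module.End k M) → (a : Module.End k M) ∈ LinearMap.range (trForm X m)) :
    (∀ L : Module.End k (H0 X m), ∃ a : Zc X, ind X m a = L) ∧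
      ∃ i, (i = 1 ∨ i = m) ∧ Layer X m i := by
  classical
  have hex : ∃ j, ¬ LinearMap.ker X ≤ LinearMap.range (X ^ j) := ⟨m, hne⟩
  obtain ⟨i, hi, hmin⟩ : ∃ i, ¬ LinearMap.ker X ≤ LinearMap.range (X ^ i) ∧
      ∀ j < i, LinearMap.ker X ≤ LinearMap.range (X ^ j) :=
    ⟨Nat.find hex, Nat.find_spec hex, fun j hj => not_not.1 (Nat.find_min hex hj)⟩
  have hpos : 1 ≤ i := by
    by_contra h
    obtain rfl : i = 0 := by omega
    exact hi (by simp [Module.End.one_eq_id])
  have him : i ≤ m := not_lt.1 fun h => hne (hmin m h)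
  have hker := hmin (i - 1) (by omega)
  obtain ⟨z, hzk, hz⟩ := SetLike.not_le_iff_exists.1 hi
  obtain ⟨g, hg⟩ := hker hzk
  have hgi : (X ^ i) g = 0 := by
    rw [show i = (i - 1) + 1 by omega, pow_succ', Module.End.mul_apply, hg, LinearMap.mem_ker.1 hzk]
  have hgr : ∀ u, g ≠ X u := fun u hu => hz ⟨u, by
    rw [← hg, hu, ← Module.End.mul_apply, ← pow_succ, Nat.sub_add_cancel hpos]⟩
  -- sums in the image of `X`
  have hinX : ∀ {l : ℕ} (u : M), l ≠ 0 → (X ^ l) u ∈ LinearMap.range X := fun {l} u hl => by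
    obtain ⟨j, rfl⟩ := Nat.exists_eq_succ_of_ne_zero hl
    exact ⟨(X ^ j) u, by rw [pow_succ', Module.End.mul_apply]⟩
  have hinf : LinearMap.ker X ⊓ LinearMap.range (X ^ i) ≤ LinearMap.range (X ^ m) := by
    by_contra hcon
    obtain ⟨v, ⟨hvk, hvi⟩, hvm⟩ := SetLike.not_le_iff_exists.1 hcon
    have hex2 : ∃ j, v ∉ LinearMap.range (X ^ j) := ⟨m, hvm⟩
    obtain ⟨j, hj, hjmin⟩ : ∃ j, v ∉ LinearMap.range (X ^ j) ∧ ∀ l < j, v ∈ LinearMap.range (X ^ l) :=
      ⟨Nat.find hex2, Nat.find_spec hex2, fun l hl => not_not.1 (Nat.find_min hex2 hl)⟩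
    have hij : i < j := not_le.1 fun h => hj (range_pow_le h hvi)
    have hjm : j ≤ m := not_lt.1 fun h => hvm (hjmin m h)
    obtain ⟨w, hw⟩ := hjmin (j - 1) (by omega)
    have hwj : ∀ l, j ≤ l → (X ^ l) w = 0 := fun l hl => by
      rw [show l = (l - j) + 1 + (j - 1) by omega, pow_add, Module.End.mul_apply, hw]
      exact pow_apply_ker hvk (by omega)
    have hx : (X ^ (i - 1)) w ∉ LinearMap.range (X ^ i) ⊔ LinearMap.ker X := by
      intro hmem
      obtain ⟨_, ⟨u, rfl⟩, c, hc, he⟩ := Submodule.mem_sup.1 hmem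
      refine hj ⟨u, ?_⟩
      have h1 := congrArg (X ^ (j - i)) he
      rwa [map_add, ← Module.End.mul_apply, ← pow_add, ← Module.End.mul_apply, ← pow_add,
        show j - i + i = j by omega, show j - i + (i - 1) = j - 1 by omega,
        pow_apply_ker hc (by omega), add_zero, hw] at h1
    obtain ⟨φ, hφ1, hφ0⟩ := exists_functional _ hx
    have hφi : ∀ u, φ ((X ^ i) u) = 0 := fun u => hφ0 _ (Submodule.mem_sup_left ⟨u, rfl⟩)
    set a : Zc X := ⟨rankOne X g φ i, rankOne_mem hgi hφi⟩
    have hak : Kills X m (a : Module.End k M) := by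
      intro u hu
      show rankOne X g φ i u ∈ _
      rw [rankOne_apply, Finset.sum_eq_zero]
      · exact Submodule.zero_mem _
      intro l hl
      have := Finset.mem_range.1 hl
      rcases eq_or_ne (i - 1 - l) 0 with e | e
      · rw [e, pow_zero, Module.End.one_apply, hφ0 _ (Submodule.mem_sup_right hu), zero_smul]
      · rw [pow_apply_ker hu e, map_zero, zero_smul]
    obtain ⟨b, hb⟩ := hZ a hak
    have h1 := LinearMap.congr_fun hb w
    rw [trForm_apply] at h1
    change _ = rankOne X g φ i w at h1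
    rw [rankOne_apply, show Finset.range i = insert 0 ((Finset.range i).erase 0) from
      (Finset.insert_erase (Finset.mem_range.2 hpos)).symm, Finset.sum_insert (Finset.notMem_erase 0 _),
      Nat.sub_zero, hφ1, one_smul, pow_zero, Module.End.one_apply] at h1
    have h2 : ∑ l ∈ (Finset.range i).erase 0, φ ((X ^ (i - 1 - l)) w) • (X ^ l) g ∈ LinearMap.range X :=
      Submodule.sum_mem _ fun l hl => Submodule.smul_mem _ _ (hinX _ (Finset.mem_erase.1 hl).1)
    have h3 : ∑ l ∈ Finset.range (m + 1), (X ^ l) (b ((X ^ (m - l)) w)) ∈ LinearMap.range X :=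
      Submodule.sum_mem _ fun l _ => by
        rcases eq_or_ne l 0 with e | e
        · rw [e, Nat.sub_zero, hwj m hjm, map_zero, map_zero]; exact Submodule.zero_mem _
        · exact hinX _ e
    rw [h1] at h3
    obtain ⟨u, hu⟩ := (Submodule.add_mem_iff_left _ h2).1 h3
    exact hgr u hu.symm
  refine ⟨?_, i, ?_, hpos, him, hker, hinf⟩
  · -- all operators
    have hone : ∀ (ψ : H0 X m →ₗ[k] k) (x : H0 X m), ∃ a : Zc X, ind X m a = ψ.smulRight x := by
      intro ψ x
      induction x using Submodule.Quotient.induction_on with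
      | _ y =>
      obtain ⟨g', hg'⟩ := hker y.2
      have hg'i : (X ^ i) g' = 0 := by
        rw [show i = (i - 1) + 1 by omega, pow_succ', Module.End.mul_apply, hg', LinearMap.mem_ker.1 y.2]
      set S := LinearMap.range (X ^ i)
      let f : LinearMap.ker X →ₗ[k] M ⧸ S := S.mkQ ∘ₗ (LinearMap.ker X).subtype
      have hkerf : LinearMap.ker f ≤ LinearMap.ker (ψ ∘ₗ Submodule.mkQ _) := fun u hu => by
        have hu' : (u : M) ∈ S := (Submodule.Quotient.mk_eq_zero _).1 hu
        rw [LinearMap.mem_ker, LinearMap.comp_apply, Submodule.mkQ_apply,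
          (Submodule.Quotient.mk_eq_zero _).2 (show u ∈ (LinearMap.range (X ^ m)).submoduleOf _ from
            hinf ⟨u.2, hu'⟩), map_zero]
      obtain ⟨φ', hφ'⟩ := LinearMap.exists_extend
        (((LinearMap.ker f).liftQ (ψ ∘ₗ Submodule.mkQ _) hkerf) ∘ₗ f.quotKerEquivRange.symm.toLinearMap)
      have hφ : ∀ u : LinearMap.ker X, φ' (S.mkQ (u : M)) = ψ (Submodule.Quotient.mk u) := fun u => by
        have h1 := LinearMap.congr_fun hφ' ⟨f u, u, rfl⟩
        rw [LinearMap.comp_apply] at h1
        refine h1.trans ?_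
        rw [LinearMap.comp_apply, LinearEquiv.coe_coe, show f.quotKerEquivRange.symm ⟨f u, u, rfl⟩ =
          Submodule.Quotient.mk u from (LinearEquiv.symm_apply_eq _).2 (Subtype.ext rfl)]
        rfl
      refine ⟨⟨rankOne X g' (φ' ∘ₗ S.mkQ) i, rankOne_mem hg'i fun u => by
        rw [LinearMap.comp_apply, Submodule.mkQ_apply,
          (Submodule.Quotient.mk_eq_zero S).2 ⟨u, rfl⟩, map_zero]⟩, ?_⟩
      refine LinearMap.ext fun x => ?_
      induction x using Submodule.Quotient.induction_on with
      | _ u =>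
      rw [ind_mk, LinearMap.smulRight_apply, ← Submodule.Quotient.mk_smul]
      congr 1
      refine Subtype.ext ?_
      show rankOne X g' (φ' ∘ₗ S.mkQ) i (u : M) = _
      rw [rankOne_apply, Finset.sum_eq_single (i - 1) (fun l hl hne' => by
        rw [pow_apply_ker u.2 (by have := Finset.mem_range.1 hl; omega), map_zero, zero_smul])
        (fun h => absurd (Finset.mem_range.2 (by omega)) h),
        Nat.sub_self, pow_zero, Module.End.one_apply, LinearMap.comp_apply, hφ, hg']
      rfl
    intro L
    let B := Module.finBasis k (H0 X m)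
    choose a ha using fun j => hone (B.coord j) (L (B j))
    refine ⟨∑ j, a j, ?_⟩
    rw [map_sum]
    refine B.ext fun j => ?_
    rw [LinearMap.sum_apply, Finset.sum_eq_single j (fun l _ hne' => by simp [ha, hne'.symm]) (by simp)]
    simp [ha]
  · by_contra hcon
    push Not at hcon
    obtain ⟨h1, h2⟩ := hcon
    obtain ⟨b, hb⟩ := hZ ⟨X, mem_Zc.2 (Commute.refl X)⟩ (fun v hv => by
      show X v ∈ _
      rw [LinearMap.mem_ker.1 hv]; exact Submodule.zero_mem _)
    have e := LinearMap.congr_fun hb g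
    rw [trForm_apply] at e
    have h3 : ∑ l ∈ Finset.range (m + 1), (X ^ l) (b ((X ^ (m - l)) g)) ∈ LinearMap.range (X ^ 2) :=
      Submodule.sum_mem _ fun l _ => by
        rcases lt_or_ge l 2 with hl | hl
        · rw [show (X ^ (m - l)) g = 0 by
            rw [show m - l = (m - l - i) + i by omega, pow_add, Module.End.mul_apply, hgi, map_zero],
            map_zero, map_zero]
          exact Submodule.zero_mem _
        · exact range_pow_le hl ⟨_, rfl⟩
    rw [e] at h3
    obtain ⟨u, hu⟩ := h3
    change _ = X g at hu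
    have h4 : g - X u ∈ LinearMap.ker X := by
      rw [LinearMap.mem_ker, map_sub, ← hu, pow_two, Module.End.mul_apply, sub_self]
    obtain ⟨u', hu'⟩ := range_pow_le (show 1 ≤ i - 1 by omega) (hker h4)
    refine hgr (u + u') ?_
    rw [map_add]
    rw [pow_one] at hu'
    rw [hu']
    abel

end CfsgLib.Block.GenericPoint
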