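import Cfsg.Agent.Lib.Block.GenericPoint.Linear

/-!
# Transfers from a hyperplane at a shifted point

Let an elementary abelian `p`-group act on `M`, let `H` be the kernel of a nonzero homomorphism `a` to
`ZMod p` and `X = ∑ c v (v - 1)` with `∑ c v a v ≠ 0`.  The transfer from `H` of an operator commuting
with `H` has the form `∑ Xˡ b Xᵐ⁻ˡ`.
-/

set_option autoImplicit false

namespace CfsgLib.Block.GenericPoint

open Module LinearMap

variable {k : Type*} [Field k] {p m : ℕ}

theorem choose_pred_cast [hp : Fact p.Prime] [CharP k p] (hm : m + 1 = p) :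
    ∀ l ≤ m, ((m.choose l : ℕ) : k) = (-1) ^ l := by
  intro l
  induction l with
  | zero => simp
  | succ l ih =>
    intro hl
    have h : ((p.choose (l + 1) : ℕ) : k) = 0 :=
      (CharP.cast_eq_zero_iff k p _).2 (hp.out.dvd_choose_self (Nat.succ_ne_zero l) (by omega))
    rw [← hm, Nat.choose_succ_succ, Nat.cast_add, ih (by omega)] at h
    rw [pow_succ, eq_neg_of_add_eq_zero_right h]
    ring

theorem sub_pow_pred [Fact p.Prime] [CharP k p] (hm : m + 1 = p) {A : Type*} [CommRing A] [Algebra k A]
    (x y : A) : (x - y) ^ m = ∑ l ∈ Finset.range (m + 1), x ^ l * y ^ (m - l) := by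
  rw [sub_eq_add_neg, add_pow]
  refine Finset.sum_congr rfl fun l hl => ?_
  have hl' : l ≤ m := Nat.lt_succ_iff.1 (Finset.mem_range.1 hl)
  have h1 : (algebraMap k A) ((-1) ^ m) = 1 := by
    rw [← choose_pred_cast (p := p) hm m le_rfl, Nat.choose_self, Nat.cast_one, map_one]
  rw [← map_natCast (algebraMap k A), choose_pred_cast (p := p) hm l hl', neg_pow y]
  rw [show m = (m - l) + l by omega, pow_add, map_mul, map_pow, map_pow, map_neg, map_one] at h1
  rw [map_pow, map_neg, map_one]
  linear_combination (x ^ l * y ^ (m - l)) * h1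

variable {M : Type*} [AddCommGroup M] [Module k M] {V : Type*} [CommGroup V]

/-- Left and right multiplication by the acting group. -/
noncomputable def lrHom (π : V →* Module.End k M) : V × V →* Module.End k (Module.End k M) where
  toFun x := LinearMap.mulLeft k (π x.1) * LinearMap.mulRight k (π x.2)
  map_one' := LinearMap.ext fun b => by simp
  map_mul' x y := LinearMap.ext fun b => by
    simp only [Prod.fst_mul, Prod.snd_mul, map_mul, Module.End.mul_apply, LinearMap.mulLeft_apply,
      LinearMap.mulRight_apply]
    rw [show π x.2 * π y.2 = π y.2 * π x.2 by rw [← map_mul, ← map_mul, mul_comm]]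
    simp only [mul_assoc]

theorem lrHom_apply (π : V →* Module.End k M) (x : V × V) (b : Module.End k M) :
    lrHom π x b = π x.1 * b * π x.2 := by
  simp [lrHom, mul_assoc]

/-- The group algebra of `V × V` on operators. -/
noncomputable def lrAlg (π : V →* Module.End k M) :
    MonoidAlgebra k (V × V) →ₐ[k] Module.End k (Module.End k M) :=
  MonoidAlgebra.lift k _ _ (lrHom π)

theorem lrAlg_of (π : V →* Module.End k M) (x : V × V) :
    lrAlg π (MonoidAlgebra.of k (V × V) x) = lrHom π x := MonoidAlgebra.lift_of _ _

/-- `∑ c v (π v - 1)`. -/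
noncomputable def point [Fintype V] (π : V →* Module.End k M) (c : V → k) : Module.End k M :=
  ∑ v, c v • (π v - 1)

theorem point_commute [Fintype V] (π : V →* Module.End k M) (c : V → k) (v : V) :
    Commute (point π c) (π v) :=
  Commute.sum_left _ _ _ fun w _ => Commute.smul_left
    (Commute.sub_left (by rw [Commute, SemiconjBy, ← map_mul, ← map_mul, mul_comm]) (Commute.one_left _)) _

theorem commute_point [Fintype V] {π : V →* Module.End k M} (c : V → k) {a : Module.End k M}
    (h : ∀ v, Commute (π v) a) : Commute (point π c) a :=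
  Commute.sum_left _ _ _ fun w _ => Commute.smul_left (Commute.sub_left (h w) (Commute.one_left _)) _

theorem point_pow_eq_zero [Fintype V] [hp : Fact p.Prime] [CharP k p] {π : V →* Module.End k M}
    (hπ : ∀ v, π v ^ p = 1) (c : V → k) : point π c ^ p = 0 := by
  let Φ := MonoidAlgebra.lift k (Module.End k M) V π
  set u : MonoidAlgebra k V := ∑ v, c v • (MonoidAlgebra.of k V v - 1)
  have hu : Φ u = point π c := by simp [u, Φ, point, MonoidAlgebra.lift_of]
  haveI := charP_of_injective_algebraMap (algebraMap k (MonoidAlgebra k V)).injective p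
  rw [← hu, ← map_pow, sum_pow_char p, map_sum]
  refine Finset.sum_eq_zero fun v _ => ?_
  rw [smul_pow, map_smul, sub_pow_char, one_pow, map_sub, map_one, map_pow, MonoidAlgebra.lift_of, hπ,
    sub_self, smul_zero]

/-- The value of a linear form coming from a homomorphism to `ZMod p`. -/
noncomputable def slope [Fintype V] (a : V → ZMod p) (c : V → k) : k := ∑ v, c v * ((a v).val : k)

theorem transfer_mem_range [Fintype V] [hp : Fact p.Prime] [CharP k p] (hm : m + 1 = p)
    {π : V →* Module.End k M} (hπ : ∀ v, π v ^ p = 1) (a : V → ZMod p)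
    (ha : ∀ v w, a (v * w) = a v + a w) {h : V} (hh : a h = 1) (c : V → k) (hc : slope a c ≠ 0)
    (b₀ : Module.End k M) (hb : ∀ r, a r = 0 → Commute (π r) b₀) :
    (∑ l ∈ Finset.range p, π (h ^ l) * b₀ * π (h ^ l)⁻¹) ∈
      LinearMap.range (trForm (point π c) m) := by
  classical
  haveI : Finite (V × V) := inferInstance
  set Φ := lrAlg π
  let L : V → MonoidAlgebra k (V × V) := fun v => MonoidAlgebra.of k (V × V) (v, 1)
  let R : V → MonoidAlgebra k (V × V) := fun v => MonoidAlgebra.of k (V × V) (1, v)
  have hL : ∀ v w, L (v * w) = L v * L w := fun v w => by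
    simp only [L, ← map_mul, Prod.mk_mul_mk, mul_one]
  have hR : ∀ v w, R (v * w) = R v * R w := fun v w => by
    simp only [R, ← map_mul, Prod.mk_mul_mk, mul_one]
  have hLp : ∀ v (j : ℕ), L (v ^ j) = L v ^ j := fun v j => by simp [L, ← map_pow]
  have hRp : ∀ v (j : ℕ), R (v ^ j) = R v ^ j := fun v j => by simp [R, ← map_pow]
  have hLa : ∀ v b, Φ (L v) b = π v * b := fun v b => by
    simp only [Φ, L, lrAlg_of, lrHom_apply, map_one, mul_one]
  have hRa : ∀ v b, Φ (R v) b = b * π v := fun v b => by
    simp only [Φ, R, lrAlg_of, lrHom_apply, map_one, one_mul]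
  let e : V → ℕ := fun v => (a v).val
  let r : V → V := fun v => v * (h ^ e v)⁻¹
  have ha1 : a 1 = 0 := by
    have := ha 1 1
    rw [one_mul] at this
    exact left_eq_add.1 this
  have hpow : ∀ j : ℕ, a (h ^ j) = (j : ZMod p) := fun j => by
    induction j with
    | zero => simp [ha1]
    | succ j ih => rw [pow_succ, ha, ih, hh, Nat.cast_succ]
  have har : ∀ v, a (r v) = 0 := fun v => by
    have := ha (r v) (h ^ e v)
    rw [inv_mul_cancel_right, hpow, ZMod.natCast_zmod_val] at this
    exact right_eq_add.1 this
  have hsplit : ∀ v, v = h ^ e v * r v := fun v => by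
    simp only [r]
    rw [mul_comm v, mul_inv_cancel_left]
  set D : MonoidAlgebra k (V × V) :=
    ∑ v, c v • (L (r v) * ∑ l ∈ Finset.range (e v), L h ^ l * R h ^ (e v - 1 - l))
  set N : MonoidAlgebra k (V × V) := ∑ v, c v • (R h ^ e v * (L (r v) - R (r v)))
  set P : MonoidAlgebra k (V × V) := ∑ v, c v • L v - ∑ v, c v • R v
  have hP : P = (L h - R h) * D + N := by
    simp only [P, D, N, Finset.mul_sum, ← Finset.sum_add_distrib, ← Finset.sum_sub_distrib, mul_smul_comm,
      ← smul_sub, ← smul_add]
    refine Finset.sum_congr rfl fun v _ => ?_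
    congr 1
    have hg := geom_sum₂_mul (L h) (R h) (e v)
    conv_lhs => rw [hsplit v, hL, hR, hLp, hRp]
    simp only [← Finset.mul_sum]
    linear_combination -(L (r v)) * hg
  -- the augmentation
  set ε : MonoidAlgebra k (V × V) →ₐ[k] k := MonoidAlgebra.lift k k (V × V) 1
  have hεD : ε D = slope a c := by
    simp [D, ε, slope, L, R, e, MonoidAlgebra.lift_of]
  set Q := MonoidAlgebra k (V × V) ⧸ RingHom.ker Φ.toRingHom
  set q := Ideal.Quotient.mkₐ k (RingHom.ker Φ.toRingHom) with hq
  have hunit : IsUnit (Φ D) := by
    have hnil : IsNilpotent (q (D - algebraMap k _ (ε D))) := by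
      have hD : ∀ z : MonoidAlgebra k (V × V), IsNilpotent (q (z - algebraMap k _ (ε z))) := by
        intro z
        induction z using MonoidAlgebra.induction_on with
        | of x =>
          refine ⟨p, ?_⟩
          rw [← map_pow, hq, Ideal.Quotient.mkₐ_eq_mk, Ideal.Quotient.eq_zero_iff_mem, RingHom.mem_ker]
          haveI := charP_of_injective_algebraMap (algebraMap k (MonoidAlgebra k (V × V))).injective p
          rw [sub_pow_char, ← map_pow (MonoidAlgebra.of k (V × V)), ← map_pow (algebraMap k _)]
          show Φ (_ - _) = 0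
          rw [map_sub, lrAlg_of, AlgHom.commutes, show ε (MonoidAlgebra.of k (V × V) x) = 1 by
            simp [ε, MonoidAlgebra.lift_of], one_pow, map_one, sub_eq_zero]
          refine LinearMap.ext fun b => ?_
          rw [lrHom_apply]
          simp [hπ]
        | add y z hy hz =>
          rw [map_add, map_add, add_sub_add_comm, map_add]
          exact (Commute.all _ _).isNilpotent_add hy hz
        | smul t y hy =>
          rw [map_smul, smul_eq_mul, map_mul, ← Algebra.smul_def, ← smul_sub, map_smul]
          exact hy.smul t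
      exact hD D
    have hu : IsUnit (q D) := by
      have h0 : IsUnit (q (algebraMap k _ (ε D))) :=
        ((Ne.isUnit (hεD.symm ▸ hc)).map (algebraMap k (MonoidAlgebra k (V × V)))).map q
      have := hnil.isUnit_add_left_of_commute h0 (Commute.all _ _)
      rwa [map_sub, add_sub_cancel] at this
    exact hu.map (Ideal.Quotient.liftₐ _ Φ fun x hx => hx)
  obtain ⟨Du, hDu⟩ := hunit
  -- operators commuting with the hyperplane
  have hNA : ∀ b, (∀ r, a r = 0 → Commute (π r) b) → Φ N b = 0 := by
    intro b hb'
    simp only [N, map_sum, map_smul, LinearMap.sum_apply, LinearMap.smul_apply, map_mul, map_sub,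
      Module.End.mul_apply, LinearMap.sub_apply, hLa, hRa]
    exact Finset.sum_eq_zero fun v _ => by simp [(hb' _ (har v)).eq]
  have hpres : ∀ (z : MonoidAlgebra k (V × V)) b, (∀ r, a r = 0 → Commute (π r) b) →
      ∀ r, a r = 0 → Commute (π r) (Φ z b) := by
    intro z b hb' r hr
    have h1 : Φ (L r) (Φ z b) = Φ (R r) (Φ z b) := by
      rw [← Module.End.mul_apply, ← map_mul, ← Module.End.mul_apply, ← map_mul, mul_comm (L r),
        mul_comm (R r), map_mul, map_mul, Module.End.mul_apply, Module.End.mul_apply, hLa, hRa, (hb' r hr).eq]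
    rwa [hLa, hRa] at h1
  have hiter : ∀ (j : ℕ) b, (∀ r, a r = 0 → Commute (π r) b) →
      Φ (P ^ j) b = Φ ((L h - R h) ^ j * D ^ j) b := by
    intro j
    induction j with
    | zero => intro b _; simp
    | succ j ih =>
      intro b hb'
      rw [pow_succ, map_mul, Module.End.mul_apply]
      nth_rewrite 2 [hP]
      rw [map_add, LinearMap.add_apply, hNA b hb', add_zero, ih _ (hpres _ b hb'), ← Module.End.mul_apply,
        ← map_mul]
      congr 2
      ring
  set b₁ : Module.End k M := b₀ * π h
  have hb₁ : ∀ r, a r = 0 → Commute (π r) b₁ := fun r hr =>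
    (hb r hr).mul_right (by rw [Commute, SemiconjBy, ← map_mul, ← map_mul, mul_comm])
  set b₂ : Module.End k M := ((Du⁻¹ : (Module.End k (Module.End k M))ˣ) ^ m :
    (Module.End k (Module.End k M))ˣ).val b₁
  have hb₂ : ∀ r, a r = 0 → Commute (π r) b₂ := by
    intro r hr
    have hc1 : ∀ z, Commute (Φ z) ((Du⁻¹ ^ m : (Module.End k (Module.End k M))ˣ) : Module.End k (Module.End k M)) := fun z => by
      rw [Units.val_pow_eq_pow_val]
      refine (Commute.units_inv_right ?_).pow_right m
      rw [hDu, Commute, SemiconjBy, ← map_mul, ← map_mul, mul_comm]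
    have h1 : Φ (L r - R r) b₂ = 0 := by
      rw [← Module.End.mul_apply, (hc1 _).eq, Module.End.mul_apply, map_sub, LinearMap.sub_apply, hLa, hRa,
        (hb₁ r hr).eq, sub_self, map_zero]
    rw [map_sub, LinearMap.sub_apply, hLa, hRa, sub_eq_zero] at h1
    exact h1
  have hmain : Φ (P ^ m) b₂ = Φ ((L h - R h) ^ m) b₁ := by
    rw [hiter m b₂ hb₂, map_mul, Module.End.mul_apply, map_pow Φ D, ← hDu]
    congr 1
    rw [← Units.val_pow_eq_pow_val, ← Module.End.mul_apply (f := ((Du ^ m : (Module.End k (Module.End k M))ˣ) : Module.End k (Module.End k M))),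
      ← Units.val_mul, inv_pow, mul_inv_cancel, Units.val_one, Module.End.one_apply]
  refine ⟨b₂, ?_⟩
  have hP' : Φ P = LinearMap.mulLeft k (point π c) - LinearMap.mulRight k (point π c) := by
    refine LinearMap.ext fun b => ?_
    simp only [P, map_sub, map_sum, map_smul, LinearMap.sub_apply, LinearMap.sum_apply,
      LinearMap.smul_apply, hLa, hRa, LinearMap.mulLeft_apply, LinearMap.mulRight_apply, point,
      Finset.sum_mul, Finset.mul_sum, smul_mul_assoc, mul_smul_comm, sub_mul, mul_sub, one_mul, mul_one,
      smul_sub, Finset.sum_sub_distrib]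
    abel
  calc trForm (point π c) m b₂ = Φ (P ^ m) b₂ := by
        set x : MonoidAlgebra k (V × V) := ∑ v, c v • (L v - 1)
        set y : MonoidAlgebra k (V × V) := ∑ v, c v • (R v - 1)
        have hxy : P = x - y := by
          simp only [P, x, y, smul_sub, Finset.sum_sub_distrib]; ring
        have hx : ∀ b, Φ x b = point π c * b := fun b => by
          simp only [x, map_sum, map_smul, map_sub, map_one, LinearMap.sum_apply, LinearMap.smul_apply,
            LinearMap.sub_apply, hLa, Module.End.one_apply, point, Finset.sum_mul, smul_mul_assoc, sub_mul,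
            one_mul]
        have hy : ∀ b, Φ y b = b * point π c := fun b => by
          simp only [y, map_sum, map_smul, map_sub, map_one, LinearMap.sum_apply, LinearMap.smul_apply,
            LinearMap.sub_apply, hRa, Module.End.one_apply, point, Finset.mul_sum, mul_smul_comm, mul_sub,
            mul_one]
        have hxp : ∀ (j : ℕ) b, Φ (x ^ j) b = point π c ^ j * b := fun j => by
          induction j with
          | zero => intro b; simp
          | succ j ih => intro b; rw [pow_succ', map_mul, Module.End.mul_apply, ih, hx, pow_succ', mul_assoc]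
        have hyp : ∀ (j : ℕ) b, Φ (y ^ j) b = b * point π c ^ j := fun j => by
          induction j with
          | zero => intro b; simp
          | succ j ih => intro b; rw [pow_succ', map_mul, Module.End.mul_apply, ih, hy, pow_succ, mul_assoc]
        rw [hxy, sub_pow_pred (k := k) (p := p) hm, map_sum, LinearMap.sum_apply, trForm, LinearMap.sum_apply]
        refine Finset.sum_congr rfl fun l _ => ?_
        rw [map_mul, Module.End.mul_apply, hyp, hxp, LinearMap.mulLeftRight_apply, mul_assoc]
    _ = Φ ((L h - R h) ^ m) b₁ := hmain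
    _ = _ := by
        rw [sub_pow_pred (k := k) (p := p) hm, hm, map_sum, LinearMap.sum_apply]
        refine Finset.sum_congr rfl fun l hl => ?_
        have hl' := Finset.mem_range.1 hl
        rw [← hLp, ← hRp, map_mul Φ, Module.End.mul_apply, hRa, hLa]
        simp only [b₁, mul_assoc]
        congr 2
        rw [← map_mul, ← pow_succ', show π (h ^ l)⁻¹ = π (h ^ (m - l + 1)) from ?_]
        rw [← mul_one (π (h ^ l)⁻¹), show (1 : Module.End k M) = π (h ^ p) by rw [map_pow, hπ], ← map_mul,
          show p = l + (m - l + 1) by omega, pow_add, inv_mul_cancel_left]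

end CfsgLib.Block.GenericPoint
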